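/-
The root systems of types `D` (`κ = 0`), `B` (`κ = 1`) and `C` (`κ = 2`).
-/
import Cfsg.Agent.Lib.Chev.Unip
import Cfsg.Agent.Lib.Cls.Frames

set_option autoImplicit false

namespace Cfsg.Agent.Gauss.BCD

open Cfsg.Agent.Chev Cfsg.Agent.Cls Matrix

variable {m : ℕ} {κ : ℕ}

/-- The sign of an index. -/
def sg (i : PM m) : ℤ := if i.sgn then 1 else -1

/-- The vector of an index. -/
def ev (i : PM m) : Fin m → ℤ := Pi.single i.idx (sg i)

/-- The scalar product of two indices. -/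
def dl (i j : PM m) : ℤ := if j = i then 1 else if j = -i then -1 else 0

theorem ev_dot (i j : PM m) : ev i ⬝ᵥ ev j = dl i j := by
  obtain ⟨a, s⟩ := i
  obtain ⟨b, t⟩ := j
  by_cases h : b = a <;> cases s <;> cases t <;> simp [ev, dl, sg, h, Pi.single_apply, eq_comm (a := a)]

/-- An integer code of an index. -/
def cd (i : PM m) : ℤ := sg i * (i.idx + 1)

theorem cd_neg (i : PM m) : cd (-i) = -cd i := by
  obtain ⟨a, s⟩ := i
  cases s <;> simp [cd, sg]

theorem cd_ne (i : PM m) : cd i ≠ 0 := by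
  obtain ⟨a, s⟩ := i
  cases s <;> simp [cd, sg] <;> omega

theorem eq_iff_cd {i j : PM m} : i = j ↔ cd i = cd j := by
  refine ⟨congrArg _, ?_⟩
  obtain ⟨a, s⟩ := i
  obtain ⟨b, t⟩ := j
  cases s <;> cases t <;> simp [cd, sg, Fin.ext_iff] <;> omega

theorem ev_neg (i : PM m) : ev (-i) = -ev i := by
  obtain ⟨a, s⟩ := i
  cases s <;> simp [ev, sg, Pi.single_neg]

theorem ev_inj {i j : PM m} (h : ev i = ev j) : i = j := by
  have := ev_dot i j
  rw [h, ev_dot, dl, dl, if_pos rfl] at this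
  split_ifs at this with e <;> simp_all

variable (κ) in
/-- The scale of the form. -/
def cs : ℤ := if κ = 1 then 2 else 1

variable (κ) in
/-- The root of a pair of indices. -/
def vec (i j : PM m) : Fin m → ℤ := if j = i then (κ : ℤ) • ev i else ev i + ev j

variable (κ) in
/-- The coroot of a pair of indices. -/
def cv (i j : PM m) : Fin m → ℤ := if j = i then cs κ • ev i else ev i + ev j

variable (κ) in
/-- The length of the root of a pair of indices. -/
def ln (i j : PM m) : ℤ := if j = i then κ else cs κ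

variable (κ) in
/-- Pairs of indices that give roots. -/
def Ok (i j : PM m) : Prop := j ≠ -i ∧ (j ≠ i ∨ κ ≠ 0)

theorem Ok.symm {i j : PM m} (h : Ok κ i j) : Ok κ j i := ⟨ne_neg_swap h.1, h.2.imp_left Ne.symm⟩

theorem Ok.neg {i j : PM m} (h : Ok κ i j) : Ok κ (-i) (-j) := ⟨neg_ne_neg_of h.1, h.2.imp_left neg_ne_neg_of⟩

theorem vec_symm (i j : PM m) : vec κ i j = vec κ j i := by
  by_cases h : j = i
  · rw [h]
  · rw [vec, vec, if_neg h, if_neg (Ne.symm h), add_comm]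

theorem cv_symm (i j : PM m) : cv κ i j = cv κ j i := by
  by_cases h : j = i
  · rw [h]
  · rw [cv, cv, if_neg h, if_neg (Ne.symm h), add_comm]

theorem ln_symm (i j : PM m) : ln κ i j = ln κ j i := by
  by_cases h : j = i
  · rw [h]
  · rw [ln, ln, if_neg h, if_neg (Ne.symm h)]

theorem vec_neg (i j : PM m) : vec κ (-i) (-j) = -vec κ i j := by
  simp only [vec, neg_inj, ev_neg]
  split_ifs
  · rw [smul_neg]
  · rw [neg_add]

theorem ln_cv (i j : PM m) : ln κ i j • cv κ i j = cs κ • vec κ i j := by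
  unfold ln cv vec
  split_ifs
  · rw [smul_comm]
  · rfl

theorem vec_dot_pos {i j : PM m} (h : Ok κ i j) (k : PM m) : 0 < vec κ i j ⬝ᵥ ev k ↔ k = i ∨ k = j := by
  have := PM.neg_ne i
  have := PM.neg_ne j
  have := h.symm.1
  obtain ⟨h1, h2⟩ := h
  unfold vec
  split_ifs with e <;> simp only [smul_dotProduct, add_dotProduct, ev_dot, dl, smul_eq_mul] <;> split_ifs <;>
    simp_all <;> omega

theorem vec_inj {i j k l : PM m} (h : Ok κ i j) (h' : Ok κ k l) (e : vec κ i j = vec κ k l) :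
    k = i ∧ l = j ∨ k = j ∧ l = i := by
  have h1 := fun a => (vec_dot_pos h a).symm.trans (e ▸ vec_dot_pos h' a)
  have := (h1 i).mp (.inl rfl)
  have := (h1 j).mp (.inr rfl)
  have := (h1 k).mpr (.inl rfl)
  have := (h1 l).mpr (.inr rfl)
  grind

variable (κ m) in
/-- The roots. -/
def Rt : Type := {v : Fin m → ℤ // ∃ p : PM m × PM m, Ok κ p.1 p.2 ∧ v = vec κ p.1 p.2}

instance : Finite (Rt m κ) := Finite.of_surjective
  (fun p : {p : PM m × PM m // Ok κ p.1 p.2} => (⟨_, p.1, p.2, rfl⟩ : Rt m κ)) fun ⟨_, p, h, e⟩ => ⟨⟨p, h⟩, Subtype.ext e.symm⟩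

noncomputable instance : Fintype (Rt m κ) := Fintype.ofFinite _

noncomputable instance : DecidableEq (Rt m κ) := Classical.decEq _

/-- The root of a pair of indices. -/
def rt {i j : PM m} (h : Ok κ i j) : Rt m κ := ⟨_, (i, j), h, rfl⟩

theorem exists_rt (r : Rt m κ) : ∃ i j, ∃ h : Ok κ i j, r = rt h := let ⟨p, h, e⟩ := r.2; ⟨p.1, p.2, h, Subtype.ext e⟩

theorem rt_symm {i j : PM m} (h : Ok κ i j) : rt h = rt h.symm := Subtype.ext (vec_symm i j)

/-- Functions on roots from symmetric functions on pairs. -/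
noncomputable def lift {α : Type*} (g : PM m → PM m → α) (r : Rt m κ) : α := g r.2.choose.1 r.2.choose.2

theorem lift_rt {α : Type*} {g : PM m → PM m → α} (hg : ∀ i j, Ok κ i j → g i j = g j i) {i j : PM m} (h : Ok κ i j) :
    lift g (rt h) = g i j := by
  rcases vec_inj h (rt h).2.choose_spec.1 (rt h).2.choose_spec.2 with ⟨a, b⟩ | ⟨a, b⟩
  · rw [lift, a, b]
  · rw [lift, a, b, hg i j h]

/-- The opposite root. -/
def neg (r : Rt m κ) : Rt m κ := ⟨-r.1, let ⟨p, h, e⟩ := r.2; ⟨(-p.1, -p.2), h.neg, by rw [e, vec_neg]⟩⟩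

theorem neg_rt {i j : PM m} (h : Ok κ i j) : neg (rt h) = rt h.neg := Subtype.ext (vec_neg i j).symm

/-- The length of a root. -/
noncomputable def len (r : Rt m κ) : ℤ := lift (ln κ) r

theorem len_rt {i j : PM m} (h : Ok κ i j) : len (rt h) = ln κ i j := lift_rt (fun i j _ => ln_symm i j) h

/-- The coroot. -/
noncomputable def cor (r : Rt m κ) : Fin m → ℤ := lift (cv κ) r

theorem cor_rt {i j : PM m} (h : Ok κ i j) : cor (rt h) = cv κ i j := lift_rt (fun i j _ => cv_symm i j) h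

theorem len_pos (r : Rt m κ) : 0 < len r := by
  obtain ⟨i, j, h, rfl⟩ := exists_rt r
  have := h.2
  rw [len_rt, ln, cs]
  split_ifs <;> simp_all <;> omega

theorem len_dot (r : Rt m κ) (v : Fin m → ℤ) : len r * cor r ⬝ᵥ v = cs κ * r.1 ⬝ᵥ v := by
  obtain ⟨i, j, h, rfl⟩ := exists_rt r
  rw [len_rt, cor_rt, ← smul_eq_mul, ← smul_dotProduct, ln_cv, smul_dotProduct, smul_eq_mul]
  rfl

/-- The action of a reflection on the indices. -/
def sw (i j a : PM m) : PM m := if a = i then -j else if a = -j then i else if a = j then -i else if a = -i then j else a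

variable (hκ : κ ≤ 2)
include hκ

theorem cs_mul {i : PM m} (h : Ok κ i i) : cs κ * κ = 2 := by
  have := h.2
  unfold cs
  split_ifs <;> simp_all <;> omega

theorem cor_self (r : Rt m κ) : cor r ⬝ᵥ r.1 = 2 := by
  obtain ⟨i, j, h, rfl⟩ := exists_rt r
  rw [cor_rt]
  change cv κ i j ⬝ᵥ vec κ i j = 2
  unfold cv vec
  split_ifs with e
  · subst e
    rw [smul_dotProduct, dotProduct_smul, ev_dot, dl, if_pos rfl, smul_smul, cs_mul hκ h]; rfl
  · simp [ev_dot, dl, e, Ne.symm e, h.1, h.symm.1]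

theorem ev_sw {i j : PM m} (h : Ok κ i j) (a : PM m) : ev (sw i j a) = ev a - (cv κ i j ⬝ᵥ ev a) • vec κ i j := by
  have := PM.neg_ne i
  have := PM.neg_ne j
  have := h.1
  have := h.symm.1
  unfold cv vec
  split_ifs with e
  · subst e
    rw [smul_dotProduct, smul_smul, smul_eq_mul, mul_right_comm, cs_mul hκ h, ev_dot, sw, dl]
    split_ifs with a1 a2
    · rw [a1, ev_neg]; module
    · rw [a2, ev_neg]; module
    · module
  · rw [add_dotProduct, ev_dot, ev_dot, sw, dl, dl]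
    by_cases a1 : a = i
    · subst a1; simp [ev_neg, Ne.symm e, *]
    by_cases a2 : a = -j
    · subst a2; simp [ev_neg, e, *]
    by_cases a3 : a = j
    · subst a3; simp [ev_neg, *]
    by_cases a4 : a = -i
    · subst a4; simp [ev_neg, *]
    · simp [*]

theorem sw_neg {i j : PM m} (h : Ok κ i j) (a : PM m) : sw i j (-a) = -sw i j a :=
  ev_inj (by rw [ev_neg, ev_sw hκ h, ev_sw hκ h, ev_neg, dotProduct_neg]; module)

theorem sw_inj {i j : PM m} (h : Ok κ i j) {a b : PM m} (e : sw i j a = sw i j b) : a = b := by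
  have h1 := congrArg ev e
  have h2 := cor_self hκ (rt h)
  rw [ev_sw hκ h, ev_sw hκ h] at h1
  have h3 := congrArg (cv κ i j ⬝ᵥ ·) h1
  rw [cor_rt] at h2
  simp only [dotProduct_sub, dotProduct_smul, show cv κ i j ⬝ᵥ vec κ i j = 2 from h2, smul_eq_mul] at h3
  rw [show cv κ i j ⬝ᵥ ev a = cv κ i j ⬝ᵥ ev b by omega, sub_left_inj] at h1
  exact ev_inj h1

theorem Ok.sw {i j k l : PM m} (h : Ok κ i j) (h' : Ok κ k l) : Ok κ (sw i j k) (sw i j l) :=
  ⟨fun e => h'.1 (sw_inj hκ h (e.trans (sw_neg hκ h k).symm)), h'.2.imp_left fun e e' => e (sw_inj hκ h e')⟩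

theorem vec_sw {i j k l : PM m} (h : Ok κ i j) :
    vec κ (sw i j k) (sw i j l) = vec κ k l - (cv κ i j ⬝ᵥ vec κ k l) • vec κ i j := by
  rw [vec, vec.eq_1 κ k l]
  by_cases e : l = k
  · rw [if_pos e, if_pos (by rw [e]), ev_sw hκ h, dotProduct_smul]
    module
  · rw [if_neg e, if_neg fun e' => e (sw_inj hκ h e'), ev_sw hκ h, ev_sw hκ h, dotProduct_add]
    module

theorem exists_refl (r s : Rt m κ) : ∃ k : Rt m κ, k.1 = s.1 - (cor r ⬝ᵥ s.1) • r.1 := by
  obtain ⟨i, j, h, rfl⟩ := exists_rt r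
  obtain ⟨k, l, h', rfl⟩ := exists_rt s
  exact ⟨rt (h.sw hκ h'), by rw [cor_rt]; exact vec_sw hκ h⟩

theorem bound {r s : Rt m κ} (h1 : s ≠ r) (h2 : s ≠ neg r) : cor r ⬝ᵥ s.1 * cor s ⬝ᵥ r.1 ≤ 3 := by
  obtain ⟨i, j, h, rfl⟩ := exists_rt r
  obtain ⟨k, l, h', rfl⟩ := exists_rt s
  have a1 : ¬ (k = i ∧ l = j) := by rintro ⟨rfl, rfl⟩; exact h1 rfl
  have a2 : ¬ (k = j ∧ l = i) := by rintro ⟨rfl, rfl⟩; exact h1 (rt_symm _)
  have a3 : ¬ (k = -i ∧ l = -j) := by rintro ⟨rfl, rfl⟩; exact h2 (neg_rt h).symm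
  have a4 : ¬ (k = -j ∧ l = -i) := by rintro ⟨rfl, rfl⟩; exact h2 ((rt_symm _).trans (neg_rt h).symm)
  rw [cor_rt, cor_rt]
  change cv κ i j ⬝ᵥ vec κ k l * cv κ k l ⬝ᵥ vec κ i j ≤ 3
  rw [dotProduct_comm (cv κ k l)]
  have d1 : ∀ {i j : PM m}, j ≠ i → j ≠ -i → ∀ k, (dl i k + dl j k) * (dl i k + dl j k) ≤ 1 := fun {i j} a b k => by
    have := cd_ne i
    simp only [dl, ne_eq, eq_iff_cd (m := m), cd_neg] at *
    split_ifs <;> omega
  have d2 : ∀ i j : PM m, dl i j = dl j i := fun i j => by rw [← ev_dot, ← ev_dot, dotProduct_comm]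
  unfold cv vec
  split_ifs with e1 e2 e2 <;>
    simp only [smul_dotProduct, add_dotProduct, dotProduct_smul, dotProduct_add, ev_dot, smul_eq_mul]
  · subst e1 e2
    simp_all [dl]
  · subst e1
    have := d1 e2 h'.1 j
    rw [d2 k, d2 l] at this
    have := cs_mul hκ h
    nlinarith
  · subst e2
    have := d1 e1 h.1 l
    have := cs_mul hκ h'
    nlinarith
  · have := cd_ne i
    have := cd_ne k
    have := h.1
    have := h'.1
    clear d1 d2 h1 h2 h h'
    simp only [dl, ne_eq, eq_iff_cd (m := m), cd_neg] at *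
    split_ifs <;> omega

omit hκ

variable (κ m) in
/-- Twice the coordinates on the fundamental roots. -/
def wv (a k : ℕ) : ℤ :=
  if k + 1 < m then (if a ≤ k then 2 else 0) - (if κ = 0 ∧ k + 2 = m then 1 else 0) else cs κ

variable (κ m) in
/-- Twice the coordinates on the fundamental roots. -/
def Wm : Matrix (Fin m) (Fin m) ℤ := of fun a k => wv m κ a k

theorem ev_W (i : PM m) (k : Fin m) : (ev i ᵥ* Wm m κ) k = sg i * wv m κ i.idx k := by
  simp [ev, single_vecMul, Wm]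

theorem vec_W (i j : PM m) (k : Fin m) : (vec κ i j ᵥ* Wm m κ) k =
    if j = i then κ * (sg i * wv m κ i.idx k) else sg i * wv m κ i.idx k + sg j * wv m κ j.idx k := by
  unfold vec
  split_ifs
  · rw [smul_vecMul, Pi.smul_apply, ev_W, smul_eq_mul]
  · rw [add_vecMul, Pi.add_apply, ev_W, ev_W]

variable (κ) in
/-- The first index of a fundamental root. -/
def p1 (k : Fin m) : PM m := if k.val + 1 < m ∨ κ ≠ 0 then ⟨k, true⟩ else ⟨⟨k - 1, by omega⟩, true⟩

/-- The second index of a fundamental root. -/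
def p2 (k : Fin m) : PM m := if h : k.val + 1 < m then ⟨⟨k + 1, h⟩, false⟩ else ⟨k, true⟩

theorem p_cases (k : Fin m) : (∃ h : k.val + 1 < m, p1 κ k = ⟨k, true⟩ ∧ p2 k = ⟨⟨k + 1, h⟩, false⟩) ∨
    (k.val + 1 = m ∧ κ ≠ 0 ∧ p1 κ k = ⟨k, true⟩ ∧ p2 k = ⟨k, true⟩) ∨
    (k.val + 1 = m ∧ κ = 0 ∧ p1 κ k = ⟨⟨k - 1, by omega⟩, true⟩ ∧ p2 k = ⟨k, true⟩) := by
  have := k.2
  by_cases h : k.val + 1 < m
  · exact .inl ⟨h, if_pos (.inl h), dif_pos h⟩
  by_cases h0 : κ = 0
  · exact .inr (.inr ⟨by omega, h0, if_neg (by omega), dif_neg h⟩)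
  · exact .inr (.inl ⟨by omega, h0, if_pos (.inr h0), dif_neg h⟩)

/-- The coordinates of a root. -/
def rc (r : Rt m κ) (k : Fin m) : ℤ := (r.1 ᵥ* Wm m κ) k / 2

/-- The height of an index. -/
def η (i : PM m) : ℤ := sg i * (m - i.idx)

theorem η_neg (i : PM m) : η (-i) = -η i := by
  obtain ⟨a, s⟩ := i
  cases s <;> simp [η, sg]

theorem η_ne {i j : PM m} (h : j ≠ -i) : η i + η j ≠ 0 := by
  obtain ⟨a, s⟩ := i
  obtain ⟨b, t⟩ := j
  have := a.2
  have := b.2
  cases s <;> cases t <;> simp [η, sg, Fin.ext_iff] at h ⊢ <;> omega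

variable (hm : 2 ≤ m)
include hm

theorem ok_p (k : Fin m) : Ok κ (p1 κ k) (p2 k) := by
  unfold Ok p1 p2
  split_ifs <;> simp_all [Fin.ext_iff] <;> omega

/-- The fundamental roots. -/
def simple (k : Fin m) : Rt m κ := rt (ok_p hm k)

omit hm
include hκ

theorem two_rc (r : Rt m κ) (k : Fin m) : 2 * rc r k = (r.1 ᵥ* Wm m κ) k := by
  obtain ⟨⟨a, s⟩, ⟨b, t⟩, h, rfl⟩ := exists_rt r
  refine Int.mul_ediv_cancel' ?_
  have := h.2
  change 2 ∣ (vec κ _ _ ᵥ* Wm m κ) k
  rw [vec_W]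
  interval_cases κ <;> cases s <;> cases t <;> simp only [wv, cs, sg] <;> split_ifs <;> simp_all <;> omega

theorem two_rc_rt {i j : PM m} (h : Ok κ i j) (k : Fin m) : 2 * rc (rt h) k =
    if j = i then κ * (sg i * wv m κ i.idx k) else sg i * wv m κ i.idx k + sg j * wv m κ j.idx k :=
  (two_rc hκ _ k).trans (vec_W i j k)

theorem rc_nonneg {i j : PM m} (h : Ok κ i j) (h0 : 0 < η i + η j) : 0 ≤ rc (rt h) := fun k => by
  have h1 := two_rc_rt hκ h k
  change (0 : ℤ) ≤ rc (rt h) k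
  generalize rc (rt h) k = x at h1
  replace h := h.2
  obtain ⟨a, s⟩ := i
  obtain ⟨b, t⟩ := j
  have := a.2
  have := b.2
  interval_cases κ <;> cases s <;> cases t <;> simp [wv, cs, sg, η, Fin.ext_iff, -Fin.val_fin_le] at h1 h0 h <;>
    split_ifs at h1 <;> omega

theorem rc_comb {k r s : Rt m κ} {a b : ℤ} (h : k.1 = a • r.1 + b • s.1) : rc k = a • rc r + b • rc s := by
  ext c
  have h1 := two_rc hκ k c
  rw [h, add_vecMul, smul_vecMul, smul_vecMul] at h1
  simp only [Pi.add_apply, Pi.smul_apply, ← two_rc hκ, smul_eq_mul] at h1 ⊢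
  linarith

theorem rc_neg (r : Rt m κ) : rc (neg r) = -rc r := by
  simpa using rc_comb hκ (k := neg r) (r := r) (s := r) (a := -1) (b := 0) (by simp [neg])

include hm

theorem simple_W (k c : Fin m) : ((simple (κ := κ) hm k).1 ᵥ* Wm m κ) c = if c = k then 2 else 0 := by
  change (vec κ _ _ ᵥ* Wm m κ) c = _
  have := k.2
  have := c.2
  rw [vec_W]
  rcases p_cases (κ := κ) k with ⟨h, a, b⟩ | ⟨h, h0, a, b⟩ | ⟨h, h0, a, b⟩ <;> simp only [a, b] <;> interval_cases κ <;>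
    simp [wv, cs, sg, Fin.ext_iff, -Fin.val_fin_le] <;> (try split_ifs) <;> omega

theorem rc_simple (k : Fin m) : rc (simple (κ := κ) hm k) = Pi.single k 1 := by
  ext c
  have := two_rc hκ (simple hm k) c
  rw [simple_W hκ, Pi.single_apply] at *
  split_ifs at * <;> omega

omit hκ in
/-- The matrix of the fundamental roots. -/
def Am : Matrix (Fin m) (Fin m) ℤ := of fun k => (simple (κ := κ) hm k).1

theorem A_W : Am (κ := κ) hm * Wm m κ = (2 : ℤ) • 1 := by
  ext k c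
  rw [mul_apply_eq_vecMul, show Am hm k = (simple (κ := κ) hm k).1 from rfl, simple_W hκ, Matrix.smul_apply, one_apply]
  simp [eq_comm]

theorem rc_A (r : Rt m κ) : rc r ᵥ* Am (κ := κ) hm = r.1 := by
  have h0 : (Wm m κ).det ≠ 0 := fun e => by
    have := congrArg det (A_W hκ hm)
    rw [det_mul, e, det_smul] at this
    simp only [mul_zero, Fintype.card_fin, det_one, mul_one] at this
    exact absurd this (by positivity)
  refine sub_eq_zero.mp (eq_zero_of_vecMul_eq_zero h0 ?_)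
  rw [sub_vecMul, vecMul_vecMul, A_W hκ hm]
  ext k
  simp [← two_rc hκ, mul_comm]

omit hκ in
theorem dot_A (u v : Fin m → ℤ) : u ⬝ᵥ (v ᵥ* Am (κ := κ) hm) = ∑ j, u ⬝ᵥ (simple (κ := κ) hm j).1 * v j := by
  rw [vecMul_eq_sum, dotProduct_sum]
  exact Finset.sum_congr rfl fun j _ => by rw [dotProduct_smul, smul_eq_mul, mul_comm]; rfl

theorem len_dvd (r : Rt m κ) (k : Fin m) : len r ∣ rc r k * len (simple (κ := κ) hm k) := by
  obtain ⟨i, j, h, rfl⟩ := exists_rt r
  have h1 := two_rc_rt hκ h k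
  rw [simple, len_rt, len_rt]
  generalize rc (rt h) k = x at h1
  replace h := h.2
  by_cases e : j = i <;> rcases p_cases (κ := κ) k with ⟨h2, a, b⟩ | ⟨h2, h0, a, b⟩ | ⟨h2, h0, a, b⟩ <;> rw [a, b] <;>
    interval_cases κ <;> simp [wv, cs, sg, ln, h2, e, Fin.ext_iff, -Fin.val_fin_le] at h1 h ⊢ <;> omega

theorem sum_pr (r s : Rt m κ) : ∑ j, cor r ⬝ᵥ (simple (κ := κ) hm j).1 * rc s j = cor r ⬝ᵥ s.1 := by
  rw [← dot_A, rc_A hκ]

theorem sum_cc (r : Rt m κ) (v : Fin m → ℤ) :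
    ∑ j, rc r j * len (simple (κ := κ) hm j) / len r * cor (simple (κ := κ) hm j) ⬝ᵥ v = cor r ⬝ᵥ v := by
  refine mul_left_cancel₀ (len_pos r).ne' ?_
  rw [len_dot, ← rc_A hκ hm r, dotProduct_comm, dot_A, Finset.mul_sum, Finset.mul_sum]
  refine Finset.sum_congr rfl fun j _ => ?_
  rw [← mul_assoc, Int.mul_ediv_cancel' (len_dvd hκ hm r j), mul_assoc, len_dot, dotProduct_comm]
  ring

/-- The root system. -/
noncomputable def RS : RSys (Rt m κ) (Fin m) where
  rc := rc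
  cc r k := rc r k * len (simple (κ := κ) hm k) / len r
  len := len
  C i j := cor (simple (κ := κ) hm i) ⬝ᵥ (simple (κ := κ) hm j).1
  simple := simple hm
  neg := neg
  rc_inj r s h := Subtype.ext (by rw [← rc_A hκ hm, h, rc_A hκ])
  rc_simple := rc_simple hκ hm
  rc_neg := rc_neg hκ
  len_pos := len_pos
  len_le r := by
    obtain ⟨i, j, h, rfl⟩ := exists_rt r
    rw [len_rt, ln, cs]
    split_ifs <;> omega
  cc_len r i := Int.ediv_mul_cancel (len_dvd hκ hm r i)
  symm i j := by rw [len_dot, len_dot, dotProduct_comm]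
  pair_self' r := by simp only [sum_pr hκ, sum_cc hκ, cor_self hκ]
  pos_or_neg r := by
    obtain ⟨i, j, h, rfl⟩ := exists_rt r
    rcases (η_ne h.1).lt_or_gt with e | e
    · have := rc_nonneg hκ h.neg (by rw [η_neg, η_neg]; omega)
      rw [← neg_rt, rc_neg hκ] at this
      exact Or.inr (by simpa using this)
    · exact Or.inl (rc_nonneg hκ h e)
  sref_ex i s := by
    obtain ⟨k, e⟩ := exists_refl hκ (simple hm i) s
    refine ⟨k, ?_⟩
    rw [sum_pr hκ, rc_comb hκ (a := 1) (r := s) (s := simple hm i) (e.trans (by rw [one_smul, sub_eq_add_neg, ← neg_smul])),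
      rc_simple hκ]
    module
  bound' i s h1 h2 := by rw [sum_pr hκ, sum_cc hκ]; exact bound hκ h1 h2
  string' i s h1 h2 := by
    rw [sum_pr hκ] at h2
    have h3 := bound hκ (r := simple hm i) (s := s) (by rintro rfl; rw [cor_self hκ] at h2; omega) h1
    have h4 : cor s ⬝ᵥ (simple (κ := κ) hm i).1 < 0 := by
      have := len_dot s (simple (κ := κ) hm i).1
      rw [dotProduct_comm s.1, ← len_dot] at this
      exact neg_of_mul_neg_right (this ▸ mul_neg_of_pos_of_neg (len_pos _) h2) (len_pos s).le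
    rw [← rc_simple hκ hm]
    by_cases h5 : cor (simple (κ := κ) hm i) ⬝ᵥ s.1 = -1
    · obtain ⟨k, e⟩ := exists_refl hκ (simple hm i) s
      exact ⟨k, by simpa using rc_comb hκ (a := 1) (b := 1) (e.trans (by rw [h5]; simp))⟩
    · obtain ⟨k, e⟩ := exists_refl hκ s (simple hm i)
      rw [show cor s ⬝ᵥ (simple (κ := κ) hm i).1 = -1 by
        nlinarith [show cor (simple (κ := κ) hm i) ⬝ᵥ s.1 ≤ -2 by omega]] at e
      exact ⟨k, by simpa using rc_comb hκ (a := 1) (b := 1) (e.trans (by simp [add_comm]))⟩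
  C_inj v h := by
    have h1 : ∀ i, (simple (κ := κ) hm i).1 ⬝ᵥ (v ᵥ* Am (κ := κ) hm) = 0 := fun i => by
      have := len_dot (simple (κ := κ) hm i) (v ᵥ* Am (κ := κ) hm)
      rw [dot_A, h, mul_zero, eq_comm, mul_eq_zero] at this
      exact this.resolve_left (by unfold cs; split_ifs <;> simp)
    have h2 : v ᵥ* Am (κ := κ) hm = 0 := dotProduct_self_eq_zero.mp (by
      rw [dot_A]; exact Finset.sum_eq_zero fun j _ => by rw [dotProduct_comm, h1, zero_mul])
    simpa [A_W hκ hm] using congrArg (· ᵥ* Wm m κ) h2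

theorem RS_neg {i j : PM m} (h : Ok κ i j) : (RS hκ hm).neg (rt h) = rt h.neg := neg_rt h

theorem RS_simple (k : Fin m) : (RS hκ hm).simple k = rt (ok_p hm k) := rfl

theorem pair_eq (r s : Rt m κ) : (RS hκ hm).pair r s = cor r ⬝ᵥ s.1 := by
  rw [← sum_cc hκ hm, RSys.pair, RSys.pv_apply]
  refine Finset.sum_congr rfl fun j _ => ?_
  rw [← sum_pr hκ hm _ s]
  rfl

theorem refl_rt {i j k l : PM m} (h : Ok κ i j) (h' : Ok κ k l) :
    (RS hκ hm).refl (rt h) (rt h') = rt (h.sw hκ h') := (RS hκ hm).rc_inj (by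
  rw [RSys.rc_refl, pair_eq, cor_rt]
  refine Eq.trans ?_ (rc_comb hκ (a := 1) (b := -(cv κ i j ⬝ᵥ vec κ k l)) (r := rt h') (s := rt h)
    ((vec_sw hκ h).trans (by rw [one_smul, sub_eq_add_neg, ← neg_smul]; rfl))).symm
  rw [one_smul, sub_eq_add_neg, ← neg_smul]; rfl)

theorem isPos_rt {i j : PM m} (h : Ok κ i j) : (RS hκ hm).IsPos (rt h) ↔ 0 < η i + η j := by
  refine ⟨fun h1 => (η_ne h.1).lt_or_gt.resolve_left fun e => ?_, rc_nonneg hκ h⟩
  exact RSys.isPos_neg_iff.mp (RS_neg hκ hm h ▸ rc_nonneg hκ h.neg (by rw [η_neg, η_neg]; omega)) h1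

theorem mem_intv {k r s : Rt m κ} {a b : ℕ} (ha : 0 < a) (hb : 0 < b) (h : k.1 = (a : ℤ) • r.1 + (b : ℤ) • s.1) :
    k ∈ (RS hκ hm).intv r s := ⟨a, b, ha, hb, rc_comb hκ h⟩

theorem inSub_rt {i j : PM m} (h : Ok κ i j) :
    (RS hκ hm).InSub {k | k.val + 1 < m} (rt h) ↔ j.sgn ≠ i.sgn := by
  have h2 : ∀ k : Fin m, ¬ k.val + 1 < m → (rc (rt h) k = 0 ↔ j.sgn ≠ i.sgn) := fun k hk => by
    have h1 := two_rc_rt hκ h k
    generalize rc (rt h) k = x at h1
    replace h := h.2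
    obtain ⟨a, s⟩ := i
    obtain ⟨b, t⟩ := j
    interval_cases κ <;> cases s <;> cases t <;> simp [wv, cs, sg, hk, Fin.ext_iff] at h1 h ⊢ <;> omega
  exact ⟨fun e => (h2 ⟨m - 1, by omega⟩ (by simp; omega)).mp (e _ (by simp; omega)), fun e k hk => (h2 k hk).mpr e⟩

theorem conn (h3 : κ = 0 → 3 ≤ m) (S : Fin m → Bool) (h : ∀ i j, (RS hκ hm).C i j ≠ 0 → S i = S j) (i j : Fin m) :
    S i = S j := by
  have h2 : ∀ (n : ℕ) (i : Fin m), i.val = n → S i = S ⟨0, by omega⟩ := fun n => Nat.strong_induction_on n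
    fun n ih i hi => by
      by_cases h0 : n = 0
      · exact congrArg S (Fin.ext (hi.trans h0))
      have := i.2
      let k : Fin m := ⟨if κ = 0 ∧ n + 1 = m then n - 2 else n - 1, by split_ifs <;> omega⟩
      refine (h i k ?_).trans (ih _ (by simp only [k]; split_ifs <;> omega) k rfl)
      have hk : κ = 0 ∧ n + 1 = m ∧ k.val + 2 = n ∨ ¬ (κ = 0 ∧ n + 1 = m) ∧ k.val + 1 = n := by
        simp only [k]; split_ifs <;> omega
      clear_value k
      change cor (rt _) ⬝ᵥ vec κ (p1 κ k) (p2 k) ≠ 0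
      rw [cor_rt]
      clear ih h
      rcases p_cases (κ := κ) k with ⟨h2, a, b⟩ | ⟨h2, h0, a, b⟩ | ⟨h2, h0, a, b⟩ <;>
        rcases p_cases (κ := κ) i with ⟨h2, c, d⟩ | ⟨h2, h0, c, d⟩ | ⟨h2, h0, c, d⟩ <;> rw [a, b, c, d] <;>
        simp only [cv, vec, cs] <;> split_ifs <;>
        simp only [smul_dotProduct, add_dotProduct, dotProduct_smul, dotProduct_add, ev_dot] <;>
        simp [dl, Fin.ext_iff] at * <;> (try split_ifs) <;> omega
  rw [h2 _ i rfl, h2 _ j rfl]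

end Cfsg.Agent.Gauss.BCD
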