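/-
Gauss decomposition with prescribed semisimple part (Ellers and Gordeev) for twisted and untwisted groups.
-/
import Cfsg.Agent.Lib.Tw.Fold
import Cfsg.Agent.Lib.Chev.DCoset

set_option autoImplicit false

namespace Cfsg.Agent.Gauss

open Cfsg.Agent.Chev Cfsg.Agent.Chev.RSys Cfsg.Agent.Chev.PreRGD Cfsg.Agent.Chev.Fold

variable {ι I : Type*} [Fintype I] [DecidableEq I] {R : RSys ι I} {G : Type*} [Group G] {P : PreRGD R G}
  [Fintype ι] [DecidableEq ι] {F : Fold P} {Γ : Type*} [Group Γ] {f : Γ →* G}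

variable (F f) in
/-- The elements `x y x'` over a fundamental reflection. -/
def MM (i : I) : Set Γ := {m | P.Over (f m) (F.s i) ∧ ∃ x y x', f x ∈ P.UL (F.orb i) ∧ f y ∈ P.VL (F.orb i) ∧
  f x' ∈ P.UL (F.orb i) ∧ m = x * y * x'}

variable (F f) in
/-- The part of the torus that permutes `MM i`. -/
def TT (i : I) : Subgroup Γ where
  carrier := {t | f t ∈ P.H ∧ ∀ m, m ∈ MM F f i ↔ m * t ∈ MM F f i}
  one_mem' := ⟨by simp, by simp⟩
  mul_mem' := fun {a b} ha hb => ⟨by simpa using mul_mem ha.1 hb.1, fun m => by rw [ha.2, hb.2, mul_assoc]⟩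
  inv_mem' := fun {a} ha => ⟨by simpa using ha.1, fun m => by rw [ha.2 (m * a⁻¹), inv_mul_cancel_right]⟩

theorem TT_eq {i j : I} (h : j ∈ F.orb i) : TT F f j = TT F f i := by
  have : MM F f j = MM F f i := by rw [MM, MM, s_eq h, orb_eq h]
  ext t
  change _ ∧ _ ↔ _ ∧ _
  rw [this]

theorem TT_le_H (i : I) : TT F f i ≤ P.H.comap f := fun _ h => h.1

theorem mem_TT [Finite Γ] {i : I} {t : Γ} (h1 : f t ∈ P.H) (h2 : ∀ m ∈ MM F f i, m * t ∈ MM F f i) :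
    t ∈ TT F f i := by
  refine ⟨h1, fun m => ⟨h2 m, fun h => ?_⟩⟩
  have key : ∀ k : ℕ, m * t * t ^ k ∈ MM F f i := fun k => by
    induction k with
    | zero => simpa using h
    | succ k ih => rw [pow_succ, ← mul_assoc]; exact h2 _ ih
  have := key (orderOf t - 1)
  rwa [mul_assoc, ← pow_succ', Nat.sub_add_cancel (orderOf_pos t), pow_orderOf_eq_one, mul_one] at this

omit [Fintype ι] [DecidableEq ι] in
theorem H_conj {S : Set ι} {h u : Γ} (hh : f h ∈ P.H) (hu : f u ∈ P.US S) : f (h * u * h⁻¹) ∈ P.US S := by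
  simpa using P.H_conj_US hh hu

omit [Fintype ι] [DecidableEq ι] in
theorem H_conj' {S : Set ι} {h u : Γ} (hh : f h ∈ P.H) (hu : f u ∈ P.US S) : f (h⁻¹ * u * h) ∈ P.US S := by
  simpa using P.H_conj_US (inv_mem hh) hu

theorem conj_mem_MM {i : I} {m h : Γ} (hm : m ∈ MM F f i) (hh : f h ∈ P.H) : h * m * h⁻¹ ∈ MM F f i := by
  obtain ⟨h1, x, y, x', hx, hy, hx', rfl⟩ := hm
  exact ⟨by simpa [mul_assoc] using (h1.H_mul hh).mul_H (inv_mem hh), _, _, _, H_conj hh hx, H_conj hh hy,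
    H_conj hh hx', by simp [mul_assoc]⟩

variable (E : F.Emb f)
include E

theorem n_mem_MM (i : I) : E.n i ∈ MM F f i := by
  obtain ⟨x, hx, y, hy, x', hx', e⟩ := (E.exists_n i).choose_spec.2
  exact ⟨E.over_n i, x, y, x', hx, hy, hx', e⟩

theorem comm_mem_TT [Finite Γ] (hc : ∀ h h' : Γ, f h ∈ P.H → f h' ∈ P.H → Commute h h') (i : I) {h : Γ}
    (hh : f h ∈ P.H) : (E.n i)⁻¹ * h * E.n i * h⁻¹ ∈ TT F f i := by
  have h0 : f ((E.n i)⁻¹ * h * E.n i) ∈ P.H := by simpa using (E.over_n i).inv.conj_H hh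
  refine mem_TT (by simpa using mul_mem h0 (inv_mem hh)) fun m hm => ?_
  have h1 : f ((E.n i)⁻¹ * m) ∈ P.H := by simpa using (E.over_n i).inv_mul_mem hm.1
  have h2 := (hc _ _ h0 h1).eq
  have h3 : m * ((E.n i)⁻¹ * h * E.n i * h⁻¹) = h * m * h⁻¹ := by
    have : m = E.n i * ((E.n i)⁻¹ * m) := by simp
    rw [this, mul_assoc (E.n i), ← mul_assoc ((E.n i)⁻¹ * m), ← h2]
    simp [mul_assoc]
  rw [h3]
  exact conj_mem_MM hm hh

theorem split_V {J : Set I} (hJ : F.StI J) {u : Γ} (hu : f u ∈ P.V) :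
    ∃ y v, f y ∈ P.VL J ∧ f v ∈ P.VJ J ∧ u = y * v := by
  obtain ⟨a, ha, h1, b, hb, -, e⟩ := fix_split E.nd halfSpace_neg closed_neg (closed_neg.inter (closed_inSub J))
    (closed_neg_not_inSub J)
    (by ext r; simp only [Set.mem_union, Set.mem_inter_iff, Set.mem_ofPred_eq]; tauto)
    (Set.disjoint_left.mpr fun _ h h' => h'.2 h.2) (st_neg.inter hJ.st) (st_neg.inter hJ.st.compl) hu (E.fix u)
  obtain ⟨a, rfl⟩ := E.exists_V (VL_le_V J ha) h1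
  exact ⟨a, a⁻¹ * u, ha, by simpa [e, VJ] using hb, by simp⟩

theorem split_V' {J : Set I} (hJ : F.StI J) {u : Γ} (hu : f u ∈ P.V) :
    ∃ v y, f v ∈ P.VJ J ∧ f y ∈ P.VL J ∧ u = v * y := by
  obtain ⟨y, v, hy, hv, e⟩ := split_V E hJ (u := u⁻¹) (by simpa using hu)
  exact ⟨v⁻¹, y⁻¹, by simpa using hv, by simpa using hy, by rw [← mul_inv_rev, ← e, inv_inv]⟩

theorem split_U' {J : Set I} (hJ : F.StI J) {u : Γ} (hu : f u ∈ P.U) :
    ∃ x v, f x ∈ P.UL J ∧ f v ∈ P.UJ J ∧ u = x * v := by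
  obtain ⟨v, x, hv, hx, e⟩ := E.split_UJ hJ (u := u⁻¹) (by simpa using hu)
  exact ⟨x⁻¹, v⁻¹, by simpa using hx, by simpa using hv, by rw [← mul_inv_rev, ← e, inv_inv]⟩

theorem n_mem_LJ {J : Set I} (hJ : F.StI J) {i : I} (hi : i ∈ J) : f (E.n i) ∈ P.LJ J :=
  E.nd.NJ_le_LJ J ((E.over_n i).mem_NJ (R.WJ_mono (hJ.orb_subset hi) (s_mem_WJ i)))

/-- The torus parts met by a Bruhat cell in the opposite big cell. -/
theorem reach (hc : ∀ h h' : Γ, f h ∈ P.H → f h' ∈ P.H → Commute h h') {w : Equiv.Perm ι} (hw : w ∈ F.WF) :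
    ∃ J : Set I, F.StI J ∧ w ∈ R.WJ J ∧ ∃ m, P.Over (f m) w ∧ ∀ t ∈ ⨆ j ∈ J, TT F f j,
      ∃ y v u, f y ∈ P.Uw w⁻¹ ∧ f v ∈ P.V ∧ f u ∈ P.U ∧ y * m = v * t * u := by
  have key : ∀ w ∈ F.WF, ∃ J : Set I, F.StI J ∧ w⁻¹ ∈ R.WJ J ∧ ∃ m, P.Over (f m) w⁻¹ ∧ ∀ t ∈ ⨆ j ∈ J, TT F f j,
      ∃ y v u, f y ∈ P.Uw w ∧ f v ∈ P.V ∧ f u ∈ P.U ∧ y * m = v * t * u := by
    intro w hw
    refine WF_induction (C := fun w => ∃ J : Set I, F.StI J ∧ w⁻¹ ∈ R.WJ J ∧ ∃ m, P.Over (f m) w⁻¹ ∧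
      ∀ t ∈ ⨆ j ∈ J, TT F f j, ∃ y v u, f y ∈ P.Uw w ∧ f v ∈ P.V ∧ f u ∈ P.U ∧ y * m = v * t * u) ?_ ?_ hw
    · refine ⟨∅, fun _ => Iff.rfl, by simp, 1, by simpa using over_one_iff.mpr (one_mem _), fun t ht => ?_⟩
      obtain rfl : t = 1 := by simpa using ht
      exact ⟨1, 1, 1, by simp, by simp, by simp, by simp⟩
    rintro w hw i hi ⟨J, hJ, h1, m, hm, h2⟩
    refine ⟨F.orb i ∪ J, fun j => or_congr (stI_orb i j) (hJ j), ?_, E.n i * m,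
      by simpa using (E.over_n i).mul hm, fun t ht => ?_⟩
    · rw [mul_inv_rev, s_inv]
      exact mul_mem (R.WJ_mono Set.subset_union_left (s_mem_WJ i)) (R.WJ_mono Set.subset_union_right h1)
    have h3 : (⨆ j ∈ F.orb i ∪ J, TT F f j) ≤ TT F f i ⊔ ⨆ j ∈ J, TT F f j := iSup₂_le fun j hj =>
      hj.elim (fun h => (TT_eq h).le.trans le_sup_left) fun h =>
        (le_iSup₂ (f := fun j (_ : j ∈ J) => TT F f j) j h).trans le_sup_right
    have hJH : (⨆ j ∈ J, TT F f j) ≤ P.H.comap f := iSup₂_le fun j _ => TT_le_H j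
    obtain ⟨a, ha, b, hb, rfl⟩ := (mem_sup_iff_of_le_normalizer (Subgroup.le_normalizer_iff.mpr fun a ha b hb => by
      rwa [(hc a b ha.1 (hJH hb)).eq, mul_inv_cancel_right])).mp (h3 ht)
    obtain ⟨y, v, u, hy, hv, hu, e⟩ := h2 b hb
    obtain ⟨y0, v', hy0, hv', rfl⟩ := split_V E (stI_orb i) hv
    obtain ⟨-, x1, y1, x2, hx1, hy1, hx2, e1⟩ := ((inv_mem ha).2 _).mp (n_mem_MM E i)
    have hn := E.over_n i
    have hx : f (x1⁻¹ * (E.n i * y0 * (E.n i)⁻¹)⁻¹) ∈ P.UL (F.orb i) := by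
      simpa using mul_mem (inv_mem hx1) (inv_mem (hn.w0J_conj_VL hy0))
    have hc1 : f (x1⁻¹ * E.n i) ∈ P.LJ (F.orb i) := by
      simpa using mul_mem (inv_mem (P.UL_le_LJ _ hx1)) (n_mem_LJ E (stI_orb i) (mem_orb_self i))
    refine ⟨x1⁻¹ * (E.n i * y0 * (E.n i)⁻¹)⁻¹ * (E.n i * y * (E.n i)⁻¹),
      (x1⁻¹ * E.n i) * v' * (x1⁻¹ * E.n i)⁻¹ * y1, (a * b)⁻¹ * x2 * (a * b) * u, ?_, ?_, ?_, ?_⟩
    · rw [map_mul]
      refine mul_mem (USub_mono (S := {r | R.IsPos r ∧ R.InSub (F.orb i) r})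
        (T := {r | R.IsPos r ∧ ¬ R.IsPos ((w * F.s i) r)}) (fun r hr => ⟨hr.1, ?_⟩) hx) ?_
      · exact not_isPos_of_orb' hw hi (not_isPos_w0J hr.1 hr.2) ((inSub_apply_iff (s_mem_WJ i)).mpr hr.2)
      · have := hn.conj_US (S := {r | R.IsPos r ∧ ¬ R.IsPos (w r)})
          (T := {r | R.IsPos r ∧ ¬ R.IsPos ((w * F.s i) r)}) (fun r hr => ⟨(isPos_apply_iff_of_not_inSub
            (s_mem_WJ i) fun h => hr.2 (isPos_of_orb hw hi hr.1 h)).mpr hr.1, by simpa using hr.2⟩) hy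
        simpa [Uw] using this
    · rw [map_mul]
      refine mul_mem (P.VJ_le_V (F.orb i) ?_) (VL_le_V _ hy1)
      simpa using LJ_conj_VJ hc1 hv'
    · rw [map_mul]
      exact mul_mem (P.UL_le_U _ (H_conj' (by simpa using mul_mem ha.1 (hJH hb)) hx2)) hu
    · have e2 : y1 * x2 * a = x1⁻¹ * E.n i := by
        rw [eq_inv_mul_iff_mul_eq, ← mul_assoc, ← mul_assoc, ← e1, inv_mul_cancel_right]
      calc _ = x1⁻¹ * E.n i * y0⁻¹ * (y * m) := by simp [mul_assoc]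
        _ = (x1⁻¹ * E.n i) * v' * (x1⁻¹ * E.n i)⁻¹ * (y1 * x2 * a) * b * u := by rw [e, e2]; simp [mul_assoc]
        _ = _ := by simp [mul_assoc]
  simpa using key w⁻¹ (inv_mem hw)

omit E [Fintype ι] [DecidableEq ι] in
theorem C_ne_zero_π {i j : I} (h : R.C i j ≠ 0) : R.C (F.π i) (F.π j) ≠ 0 := fun h0 => by
  have h1 : R.sref (F.π i) (R.simple (F.π j)) = R.simple (F.π j) := by
    rw [← refl_simple]; exact R.refl_eq_self_of_pair (by rw [pair_simple_simple, h0])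
  rw [← F.ρ_simple, ← F.ρ_sref, F.ρ.injective.eq_iff] at h1
  have h2 := congrFun (R.rc_sref i (R.simple j)) i
  rw [h1, pair_simple_simple] at h2
  simp only [Pi.sub_apply, Pi.smul_apply, Pi.single_eq_same, smul_eq_mul, mul_one] at h2
  omega

omit E in
theorem s_ne_simple {a k b j : I} (hk : k ∈ F.orb a) (h : R.C k b ≠ 0) (hb : b ∉ F.orb a) (hj : j ∉ F.orb a) :
    F.s a (R.simple b) ≠ R.simple j := fun e => by
  have h1 : R.C k b < 0 := lt_of_le_of_ne (R.C_nonpos fun e => hb (e ▸ hk)) h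
  have hk' : R.InSub (F.orb a) (F.s a (R.simple k)) := (inSub_apply_iff (s_mem_WJ a)).mpr (inSub_simple.mpr hk)
  have h2 : ¬ R.IsPos (F.s a (R.simple k)) := not_isPos_w0J (R.isPos_simple k) (inSub_simple.mpr hk)
  rw [← pair_simple_simple, ← Aut.pair_apply (mem_Aut (s_mem (F := F) a)), e, pair_simple_right] at h1
  refine absurd h1 (not_lt.mpr (Finset.sum_nonneg fun l _ => ?_))
  by_cases hl : l ∈ F.orb a
  · have h3 := (isPos_neg_iff.mpr h2).cc_nonneg l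
    rw [cc_neg] at h3
    exact mul_nonneg_of_nonpos_of_nonpos (by simpa using h3) (R.C_nonpos fun e => hj (e ▸ hl))
  · rw [cc_eq_zero_iff.mpr (hk' l hl), zero_mul]

omit E [Fintype ι] [DecidableEq ι] in
theorem stI_compl {J : Set I} (hJ : F.StI J) : F.StI Jᶜ := fun i => not_congr (hJ i)

theorem eq_one_of_conj_mem_B (hz : ∀ g : Γ, f g ∈ P.H → (∀ y, f y ∈ P.V → Commute g y) → g = 1) {g : Γ}
    (h : ∀ x, f (x * g * x⁻¹) ∈ P.B) : g = 1 := by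
  obtain ⟨m, hm⟩ := E.exists_over (w0_mem_WF (F := F))
  have h1 : f g ∈ P.H := by
    refine E.nd.mem_H_of_mem_B_Bm (by simpa using h 1) (mem_Bm_iff.mpr ?_)
    obtain ⟨k, hk, e⟩ := hm.exists_eq
    have h2 := h m
    simp only [map_mul, map_inv, e] at h2
    have h3 := P.H_le_B (P.nW_conj_H R.w0 hk)
    simpa [mul_assoc] using mul_mem (mul_mem (inv_mem h3) h2) h3
  refine hz g h1 fun y hy => ?_
  have h2 : f (y * g * y⁻¹ * g⁻¹) = 1 := by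
    refine E.nd.eq_one_of_mem_V_B ?_ (by simpa using mul_mem (h y) (inv_mem (P.H_le_B h1)))
    simpa [mul_assoc] using mul_mem hy (P.H_conj_US h1 (inv_mem hy))
  have h3 : y * g * y⁻¹ * g⁻¹ = 1 := E.inj (by simpa using h2)
  rw [mul_inv_eq_one, mul_inv_eq_iff_eq_mul] at h3
  exact h3.symm

/-- A non-trivial element has a conjugate outside all maximal standard parabolic subgroups. -/
theorem exists_full (hconn : ∀ S : I → Bool, (∀ i j, R.C i j ≠ 0 → S i = S j) → ∀ i j, S i = S j)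
    (hz : ∀ g : Γ, f g ∈ P.H → (∀ y, f y ∈ P.V → Commute g y) → g = 1) {g : Γ} (hg : g ≠ 1) :
    ∃ x, ∀ i, f (x * g * x⁻¹) ∉ P.PJ (F.orb i)ᶜ := by
  classical
  let S : Γ → Finset I := fun x => Finset.univ.filter fun i => f (x * g * x⁻¹) ∉ P.PJ (F.orb i)ᶜ
  have hS : ∀ x i, i ∈ S x ↔ f (x * g * x⁻¹) ∉ P.PJ (F.orb i)ᶜ := fun x i => by simp [S]
  obtain ⟨T, ⟨x, rfl⟩, hmax⟩ := Set.Finite.exists_maximal (Set.toFinite (Set.range S)) ⟨_, 1, rfl⟩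
  refine ⟨x, fun i => (hS x i).mp ?_⟩
  have hne : ∃ j, j ∈ S x := by
    by_contra hcon
    refine hg (eq_one_of_conj_mem_B E hz fun y => ?_)
    have h1 : S y ⊆ S x := hmax ⟨y, rfl⟩ fun j hj => absurd ⟨j, hj⟩ hcon
    have h2 : ∀ J : Finset I, f (y * g * y⁻¹) ∈ P.PJ (J : Set I)ᶜ := fun J => by
      induction J using Finset.induction_on with
      | empty => simpa [full] using E.full (y * g * y⁻¹)
      | insert a J _ ih =>
        have h3 : f (y * g * y⁻¹) ∈ P.PJ (F.orb a)ᶜ := by_contra fun h => hcon ⟨a, h1 ((hS y a).mpr h)⟩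
        have h4 := Subgroup.mem_inf.mpr ⟨h3, ih⟩
        rw [E.nd.PJ_inf] at h4
        refine P.PJ_mono (fun j hj => ?_) h4
        simp only [Finset.coe_insert, Set.mem_compl_iff, Set.mem_insert_iff, not_or]
        exact ⟨fun e => hj.1 (by rw [e]; exact mem_orb_self a), hj.2⟩
    simpa [PJ_empty] using h2 Finset.univ
  obtain ⟨j0, hj0⟩ := hne
  by_contra hi
  have h1 : ¬ ∀ a b, R.C a b ≠ 0 → decide (a ∈ S x) = decide (b ∈ S x) := fun h => by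
    simpa [hi, hj0] using hconn _ h i j0
  obtain ⟨a, b, hab, ha, hb⟩ : ∃ a b, R.C a b ≠ 0 ∧ a ∉ S x ∧ b ∈ S x := by
    push Not at h1
    obtain ⟨a, b, h2, h3⟩ := h1
    by_cases ha : a ∈ S x
    · refine ⟨b, a, ?_, by simpa [ha] using h3, ha⟩
      rwa [← pair_simple_simple, Ne, pair_eq_zero_comm, pair_simple_simple]
    · exact ⟨a, b, h2, ha, by simpa [ha] using h3⟩
  have horb : ∀ {c d}, d ∈ F.orb c → (d ∈ S x ↔ c ∈ S x) := fun h => by rw [hS, hS, orb_eq h]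
  have h2 : S x ⊆ S (E.n a * x) := fun c hc => by
    rw [hS] at hc ⊢
    intro h
    have h3 : f (E.n a) ∈ P.PJ (F.orb c)ᶜ := P.LJ_le_PJ _ (n_mem_LJ E (stI_compl (stI_orb c))
      fun h' => ha ((horb h').mpr ((hS x c).mpr hc)))
    exact hc (by simpa [mul_assoc] using mul_mem (mul_mem (inv_mem h3) h) h3)
  have h3 : f (E.n a * x * g * (E.n a * x)⁻¹) ∈ P.PJ (F.orb a)ᶜ :=
    by_contra fun h => ha (hmax ⟨_, rfl⟩ h2 ((hS _ a).mpr h))
  have h4 : f (x * g * x⁻¹) ∈ P.PJ (F.orb a)ᶜ := by_contra fun h => ha ((hS x a).mpr h)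
  obtain ⟨k, hk, e⟩ := (E.over_n a).exists_eq
  have hk' : ∀ J, k ∈ P.PJ J := fun J => P.B_le_PJ J (P.H_le_B hk)
  have hpos : ∀ c ∈ (F.orb a)ᶜ, R.IsPos (F.s a (R.simple c)) := fun c hc =>
    (isPos_apply_iff_of_not_inSub (s_mem_WJ a) fun h => hc (inSub_simple.mp h)).mpr (R.isPos_simple c)
  have hW := WF_le_W (s_mem (F := F) a)
  have h5 := (E.nd.dcoset_unique hW hW hpos hpos (by simpa using hpos) (by simpa using hpos) h3
    (mul_mem (mul_mem (hk' _) h4) (inv_mem (hk' _))) (by simp [e, mul_assoc])).2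
  refine (hS x b).mp hb ?_
  have h6 := P.PJ_mono (J' := (F.orb b)ᶜ) (by
    rintro c ⟨hc, j, hj, e⟩ hcb
    obtain ⟨k, hk, hkc⟩ := orb_induction (C := fun c => ∃ k ∈ F.orb a, R.C k c ≠ 0) ⟨a, mem_orb_self a, hab⟩
      (fun c ⟨k, hk, h⟩ => ⟨F.π k, (stI_orb a k).mpr hk, C_ne_zero_π h⟩) hcb
    exact s_ne_simple hk hkc hc hj e) h5
  simpa [mul_assoc] using mul_mem (mul_mem (inv_mem (hk' _)) h6) (hk' _)

/-- **Ellers–Gordeev**: Gauss decomposition of a conjugate with prescribed semisimple part. -/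
theorem gauss (hc : ∀ h h' : Γ, f h ∈ P.H → f h' ∈ P.H → Commute h h')
    (hconn : ∀ S : I → Bool, (∀ i j, R.C i j ≠ 0 → S i = S j) → ∀ i j, S i = S j)
    (hz : ∀ g : Γ, f g ∈ P.H → (∀ y, f y ∈ P.V → Commute g y) → g = 1)
    (hT : P.H.comap f ≤ ⨆ i, TT F f i) {g : Γ} (hg : g ≠ 1) {h : Γ} (hh : f h ∈ P.H) :
    ∃ v u, f v ∈ P.V ∧ f u ∈ P.U ∧ IsConj g (v * h * u) := by
  obtain ⟨x, hx⟩ := exists_full E hconn hz hg
  obtain ⟨w, hw, m, u1, u2, hm, hu1, hu2, e⟩ := E.bruhat (x * g * x⁻¹)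
  obtain ⟨J, hJ, hwJ, m', hm', h2⟩ := reach E hc hw
  have hu2' := P.Uw_le_U w hu2
  have hall : ∀ i, i ∈ J := fun i => by
    by_contra hi
    have h0 : J ⊆ (F.orb i)ᶜ := fun j hj h => hi (hJ.orb_subset hj (by rw [orb_eq h]; exact mem_orb_self i))
    refine hx i ?_
    rw [e, map_mul, map_mul]
    exact mul_mem (mul_mem (P.U_le_PJ _ hu1) (P.NJ_le_PJ _ (hm.mem_NJ (R.WJ_mono h0 hwJ)))) (P.U_le_PJ _ hu2')
  have hk : f (m'⁻¹ * m) ∈ P.H := by simpa using hm'.inv_mul_mem hm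
  have h3 : h * (m'⁻¹ * m)⁻¹ ∈ P.H.comap f := mul_mem hh (inv_mem hk)
  have h4 : (⨆ i, TT F f i) ≤ ⨆ j ∈ J, TT F f j :=
    iSup_le fun j => le_iSup₂ (f := fun j (_ : j ∈ J) => TT F f j) j (hall j)
  obtain ⟨y, v, u, hy, hv, hu, e2⟩ := h2 _ (h4 (hT h3))
  have hy' := P.Uw_le_U _ hy
  refine ⟨v, (m'⁻¹ * m)⁻¹ * u * (m'⁻¹ * m) * u2 * u1 * y⁻¹, hv, ?_, isConj_iff.mpr ⟨y * u1⁻¹ * x, ?_⟩⟩
  · rw [map_mul, map_mul, map_mul, map_inv]
    exact mul_mem (mul_mem (mul_mem (H_conj' hk hu) hu2') hu1) (inv_mem hy')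
  · calc _ = y * u1⁻¹ * (x * g * x⁻¹) * (y * u1⁻¹)⁻¹ := by simp [mul_assoc]
      _ = (y * m') * (m'⁻¹ * m) * u2 * u1 * y⁻¹ := by rw [e]; simp [mul_assoc]
      _ = _ := by rw [e2]; simp [mul_assoc]

end Cfsg.Agent.Gauss
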