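/-
The root group datum of a split classical group of type `B`, `C` or `D`.
-/
import Cfsg.Agent.Lib.Gauss.BCD
import Cfsg.Agent.Lib.Gauss.Block
import Cfsg.Agent.Lib.Cls.Cox
import Cfsg.Agent.Lib.Cls.Torus

set_option autoImplicit false

namespace Cfsg.Agent.Gauss.BCD

open Cfsg.Agent.Chev Cfsg.Agent.Chev.RSys Cfsg.Agent.Cls Cfsg.Agent.Forms Cfsg.Agent.Forms.Form
open scoped commutatorElement

variable {F : Type*} [Field F] {P : Param F} {V : Type*} [AddCommGroup V] [Module F V] {f : Form P V} {m κ : ℕ}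
  {fr : Frame f (PM m)}

theorem sw_conj {π : PM m → PM m} (h : Function.Injective π) (h' : ∀ a, π (-a) = -π a) (k l b : PM m) :
    sw (π k) (π l) (π b) = π (sw k l b) := by
  simp only [sw, ← h', h.eq_iff]
  split_ifs <;> rfl

theorem sw_sw (hκ : κ ≤ 2) {i j : PM m} (h : Ok κ i j) (a : PM m) : sw i j (sw i j a) = a := by
  have h2 := cor_self hκ (rt h)
  rw [cor_rt] at h2
  refine ev_inj ?_
  rw [ev_sw hκ h, ev_sw hκ h, dotProduct_sub, dotProduct_smul, show cv κ i j ⬝ᵥ vec κ i j = 2 from h2, smul_eq_mul]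
  module

theorem sw_neg_neg (hκ : κ ≤ 2) {i j : PM m} (h : Ok κ i j) (a : PM m) : sw (-i) (-j) a = sw i j a :=
  neg_injective ((sw_neg hκ h.neg a).symm.trans (sw_conj neg_injective (fun _ => rfl) i j a))

variable (fr) in
/-- The Weyl elements. -/
abbrev WW (i j : PM m) : Set f.Isom := WR fr (MonoidHom.id _) fr.U i j

theorem pSt0 : PSt0 fr (MonoidHom.id _) fr.U := ⟨fun _ _ _ h => h, fun _ _ h => h, fun _ g h => ⟨g, h, rfl⟩,
  fun _ _ _ _ h _ => fr.conj_mem_U h, fun _ _ _ h _ _ hx => fr.RA_subset_U (fr.RA_swap h hx)⟩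

theorem mem_XR {i j : PM m} {x : f.Isom} : x ∈ XR fr (MonoidHom.id _) fr.U i j ↔ x ∈ fr.RX i j :=
  ⟨fun h => h.2, fun h => ⟨fr.RX_le_U i j h, h⟩⟩

theorem W_mv {i j : PM m} (h : j ≠ -i) {r : f.Isom} (hr : r ∈ WW fr i j) (a : PM m) : fr.Mv r a (sw i j a) := by
  unfold sw
  split_ifs with a1 a2 a3 a4
  · exact a1 ▸ pSt0.W_mv2 h hr
  · exact a2 ▸ pSt0.W_mv3 h hr
  · exact a3 ▸ pSt0.W_mv4 h hr
  · exact a4 ▸ pSt0.W_mv1 h hr
  · exact .of_eq (W_fix hr a1 a4 a3 a2)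

theorem W_mem_EG {i j : PM m} {r : f.Isom} (hr : r ∈ WW fr i j) : r ∈ fr.EG := by
  obtain ⟨-, x, hx, -, y, hy, y', hy', rfl⟩ := hr
  exact mul_mem (mul_mem (fr.U_le_EG _ hy.1) (fr.U_le_EG _ hx.1)) (fr.U_le_EG _ hy'.1)

variable (fr) in
/-- The root subgroups. -/
noncomputable def XX (r : Rt m κ) : Subgroup f.Isom := lift fr.RX r

theorem XX_rt {i j : PM m} (h : Ok κ i j) : XX fr (rt h) = fr.RX i j :=
  lift_rt (fun _ _ h => le_antisymm (fr.RX_symm h.1) (fr.RX_symm h.symm.1)) h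

variable (fr) in
/-- The diagonal subgroup. -/
def HH : Subgroup f.Isom where
  carrier := {g | ∀ i, fr.Mv g i i}
  one_mem' _ := .one
  mul_mem' ha hb i := (ha i).mul (hb i)
  inv_mem' ha i := (ha i).inv

theorem HH_le_Mon : HH fr ≤ fr.Mon := fun _ h => fr.mem_Mon fun i => ⟨i, h i⟩

variable (fr) in
/-- The filtration attached to a height function. -/
def Fl (θ : PM m → ℤ) (n : ℤ) : Submodule F V :=
  Submodule.span F {w | (∃ k, n ≤ θ k ∧ w = fr.e k) ∨ (n ≤ 0 ∧ w ∈ fr.V0)}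

section flag

variable {θ : PM m → ℤ} {n : ℤ} {w : V}

theorem e_mem_Fl {k : PM m} (h : n ≤ θ k) : fr.e k ∈ Fl fr θ n := Submodule.subset_span (.inl ⟨k, h, rfl⟩)

theorem V0_mem_Fl (h : n ≤ 0) (hw : w ∈ fr.V0) : w ∈ Fl fr θ n := Submodule.subset_span (.inr ⟨h, hw⟩)

theorem Fl_succ : Fl fr θ (n + 1) ≤ Fl fr θ n :=
  Submodule.span_mono fun _ h => h.imp (fun ⟨k, a, b⟩ => ⟨k, by omega, b⟩) fun h => ⟨by omega, h.2⟩

theorem B_Fl (hw : w ∈ Fl fr θ n) {l : PM m} (h : θ l < n) : f.B w (fr.e (-l)) = 0 := by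
  refine Submodule.span_le.mpr (?_ : _ ⊆ (LinearMap.ker (f.B.flip (fr.e (-l))) : Set V)) hw
  rintro _ (⟨k, hk, rfl⟩ | ⟨-, hv⟩)
  · exact fr.B_neg (by rintro rfl; omega)
  · exact fr.mem_V0.mp hv _

theorem B_Fl' (hw : w ∈ Fl fr θ n) (h : 0 < n) {v : V} (hv : v ∈ fr.V0) : f.B w v = 0 := by
  refine Submodule.span_le.mpr (?_ : _ ⊆ (LinearMap.ker (f.B.flip v) : Set V)) hw
  rintro _ (⟨k, -, rfl⟩ | ⟨h', -⟩)
  · exact f.B_eq_zero_symm (fr.mem_V0.mp hv _)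
  · omega

theorem smul_mem_of {S : Submodule F V} {c : F} (h : c ≠ 0 → w ∈ S) : c • w ∈ S := by
  by_cases e : c = 0
  · simp [e]
  · exact S.smul_mem c (h e)

theorem str_RX (hθ : ∀ i, θ (-i) = -θ i) {i j : PM m} (h : 0 < θ i + θ j) {x : f.Isom} (hx : x ∈ fr.RX i j)
    (hw : w ∈ Fl fr θ n) : x.1 w - w ∈ Fl fr θ (n + 1) := by
  have h1 : ∀ k, f.B w (fr.e k) ≠ 0 → n ≤ -θ k := fun k e => not_lt.mp fun e' =>
    e (by simpa using B_Fl hw (l := -k) (by rwa [hθ]))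
  have h2 : ∀ {v l}, IsE x (fr.e i) v l → x.1 w - w =
      f.B w (fr.e i) • v - (P.ε * f.B w v) • fr.e i - (P.ε * l * f.B w (fr.e i)) • fr.e i := fun h => by
    rw [h.app]; abel
  by_cases e : j = i
  · subst e
    obtain ⟨v, hv, l, hx⟩ := (fr.RX_self j).le hx
    rw [h2 hx]
    refine sub_mem (sub_mem (smul_mem_of fun e => V0_mem_Fl ?_ hv) (smul_mem_of fun e => e_mem_Fl ?_))
      (smul_mem_of fun e => e_mem_Fl ?_)
    · have := h1 _ e; omega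
    · have := not_lt.mp fun e' => right_ne_zero_of_mul e (B_Fl' hw e' hv); omega
    · have := h1 _ (right_ne_zero_of_mul e); omega
  · obtain ⟨a, hx⟩ := (fr.RX_of_ne e).le hx
    rw [h2 hx, mul_zero, zero_mul, zero_smul, sub_zero, B_smul_right]
    refine sub_mem (smul_mem_of fun e => Submodule.smul_mem _ _ (e_mem_Fl ?_)) (smul_mem_of fun e => e_mem_Fl ?_)
    · have := h1 _ e; omega
    · have := h1 _ (right_ne_zero_of_mul (right_ne_zero_of_mul e)); omega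

theorem str_US (hθ : ∀ i, θ (-i) = -θ i) {S : Set (Rt m κ)} (hS : ∀ i j (h : Ok κ i j), rt h ∈ S → 0 < θ i + θ j)
    {g : f.Isom} (hg : g ∈ USub (XX fr) S) : ∀ n, ∀ w ∈ Fl fr θ n, g.1 w - w ∈ Fl fr θ (n + 1) := by
  refine USub_induction (C := fun g => ∀ n, ∀ w ∈ Fl fr θ n, g.1 w - w ∈ Fl fr θ (n + 1)) hg (fun r hr x hx n w hw => ?_)
    (by simp) fun x y _ _ hx hy n w hw => ?_
  · obtain ⟨i, j, h, rfl⟩ := exists_rt r
    exact str_RX hθ (hS i j h hr) ((XX_rt h).le hx) hw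
  · have := hy n w hw
    simpa using (Fl fr θ _).add_mem (hx n (y.1 w) (by simpa using (Fl fr θ _).add_mem (Fl_succ this) hw)) this

end flag

variable (fr) in
/-- The action of a Weyl element with two indices. -/
structure FA (i j : PM m) (a : F) (g : f.Isom) : Prop where
  a1 : g.1 (fr.e (-i)) = (f.B (fr.e (-i)) (fr.e i) * a) • fr.e j
  a2 : g.1 (fr.e (-j)) = (-(P.ε * (a * f.B (fr.e (-j)) (fr.e j)))) • fr.e i
  a3 : g.1 (fr.e i) = (P.ε * (a * f.B (fr.e (-j)) (fr.e j))⁻¹) • fr.e (-j)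
  a4 : g.1 (fr.e j) = (-(f.B (fr.e (-i)) (fr.e i) * a)⁻¹) • fr.e (-i)
  a5 : ∀ k, k ≠ i → k ≠ -i → k ≠ j → k ≠ -j → g.1 (fr.e k) = fr.e k
  a6 : ∀ v ∈ fr.V0, g.1 v = v

variable (fr) in
/-- The action of a Weyl element with one index. -/
structure FC (i : PM m) (l : F) (g : f.Isom) : Prop where
  a1 : g.1 (fr.e (-i)) = (-(P.ε * l * f.B (fr.e (-i)) (fr.e i))) • fr.e i
  a2 : g.1 (fr.e i) = (-(l * f.B (fr.e (-i)) (fr.e i))⁻¹) • fr.e (-i)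
  a5 : ∀ k, k ≠ i → k ≠ -i → g.1 (fr.e k) = fr.e k
  a6 : ∀ v ∈ fr.V0, g.1 v = -v

section formulas

variable {i j : PM m} {a b c : F} {x y z : f.Isom}

theorem FA.eq (h : FA fr i j a x) (h' : FA fr i j a y) : x = y := by
  refine fr.ext (fun k => ?_) fun v hv => (h.a6 v hv).trans (h'.a6 v hv).symm
  by_cases a1 : k = i
  · rw [a1, h.a3, h'.a3]
  by_cases a2 : k = -i
  · rw [a2, h.a1, h'.a1]
  by_cases a3 : k = j
  · rw [a3, h.a4, h'.a4]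
  by_cases a4 : k = -j
  · rw [a4, h.a2, h'.a2]
  rw [h.a5 k a1 a2 a3 a4, h'.a5 k a1 a2 a3 a4]

theorem FC.eq (h : FC fr i a x) (h' : FC fr i a y) : x = y := by
  refine fr.ext (fun k => ?_) fun v hv => (h.a6 v hv).trans (h'.a6 v hv).symm
  by_cases a1 : k = i
  · rw [a1, h.a2, h'.a2]
  by_cases a2 : k = -i
  · rw [a2, h.a1, h'.a1]
  rw [h.a5 k a1 a2, h'.a5 k a1 a2]

theorem FA.tri (hx : FA fr i j a x) (hy : FA fr i j b y) (hz : FA fr i j c z) :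
    FA fr i j (-(a * c / b)) (x * y * z) := by
  have := fr.B_ne' i
  have := fr.B_ne' j
  refine ⟨?_, ?_, ?_, ?_, fun k a b c d => ?_, fun v hv => ?_⟩
  rotate_left 4
  · simp only [Isom.mul_apply, hx.a5 k a b c d, hy.a5 k a b c d, hz.a5 k a b c d]
  · simp only [Isom.mul_apply, hx.a6 v hv, hy.a6 v hv, hz.a6 v hv]
  all_goals
    simp only [Isom.mul_apply, map_smul, smul_smul, hx.a1, hx.a2, hx.a3, hx.a4, hy.a1, hy.a2, hy.a3, hy.a4, hz.a1, hz.a2,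
      hz.a3, hz.a4]
    congr 1
    rcases P.ε_eq with e | e <;> (try simp only [e]) <;> field_simp

theorem FC.tri (hx : FC fr i a x) (hy : FC fr i b y) (hz : FC fr i c z) : FC fr i (P.ε * (a * c / b)) (x * y * z) := by
  have := fr.B_ne' i
  refine ⟨?_, ?_, fun k a b => ?_, fun v hv => ?_⟩
  rotate_left 2
  · simp only [Isom.mul_apply, hx.a5 k a b, hy.a5 k a b, hz.a5 k a b]
  · simp only [Isom.mul_apply, hx.a6 v hv, hy.a6 v hv, hz.a6 v hv, map_neg, neg_neg]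
  all_goals
    simp only [Isom.mul_apply, map_smul, smul_smul, hx.a1, hx.a2, hy.a1, hy.a2, hz.a1, hz.a2]
    congr 1
    rcases P.ε_eq with e | e <;> simp only [e] <;> field_simp

theorem A_inj (h1 : j ≠ i) (h : IsE x (fr.e i) (a • fr.e j) 0) (h' : IsE x (fr.e i) (b • fr.e j) 0) : a = b :=
  smul_left_injective F (fr.e_ne_zero j) (IsE.unique (fr.B_ne i) (fr.Qe _) (by rw [B_smul_left, fr.B_neg h1, mul_zero])
    (by rw [B_smul_left, fr.B_neg h1, mul_zero]) h h').1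

theorem A_ne_one (h1 : j ≠ i) (h : IsE x (fr.e i) (a • fr.e j) 0) : x ≠ 1 ↔ a ≠ 0 :=
  ⟨fun e e' => e (h.congr (by rw [e', zero_smul]) rfl).eq_one,
    fun e e' => e (A_inj h1 h (by simpa [e'] using isE_one (fr.e i)))⟩

theorem C_ne_one {v : V} (hv : v ∈ fr.V0) (h : IsE x (fr.e i) v a) : x ≠ 1 ↔ a ≠ 0 :=
  ⟨fr.l_ne_zero hv h, fun e e' => e (IsE.unique (fr.B_ne i) (fr.Qe _) (fr.mem_V0.mp hv _) (f.B_zero_left _) h
    (e' ▸ isE_one _)).2⟩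

end formulas

variable (κ fr) in
/-- Frames of split type. -/
structure Typ : Prop where
  le : κ ≤ 2
  σ : ∀ a, P.σ a = a
  hasC : κ ≠ 0 → fr.HasC
  lam : κ ≠ 2 → ∀ v l l', f.IsLam v l → f.IsLam v l' → l = l'
  V0 : κ ≠ 1 → ∀ v ∈ fr.V0, v = 0
  nd : ∀ v ∈ fr.V0, f.B v v = 0 → v = 0
  gen : ∃ v0 ∈ fr.V0, ∀ v ∈ fr.V0, ∃ c : F, v = c • v0
  refl : ∀ v ∈ fr.V0, ∀ l, f.IsLam v l → l ≠ 0 → ∀ w ∈ fr.V0, w - (f.B w v * l⁻¹) • v = -w
  tri : ∀ u ∈ fr.V0, ∀ v ∈ fr.V0, ∀ w ∈ fr.V0, ∀ a b c, f.IsLam u a → f.IsLam v b → f.IsLam w c →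
    ∃ z ∈ fr.V0, f.IsLam z (a * c / b)

namespace Typ

variable (T : Typ κ fr)
include T

theorem exists_ne_one {i j : PM m} (h : Ok κ i j) : ∃ x ∈ fr.RX i j, x ≠ 1 :=
  fr.exists_RX_ne_one (h.2.imp_right T.hasC) h.1

theorem exists_W {i j : PM m} (h : Ok κ i j) : ∃ r, r ∈ WW fr i j := pSt0.W_nonempty (h.2.imp_right T.hasC) h.1

theorem exists_n (r : Rt m κ) : ∃ g ∈ fr.Mon, ∀ i j (h : Ok κ i j), r = rt h → ∀ a, fr.Mv g a (sw i j a) := by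
  obtain ⟨i, j, h, rfl⟩ := exists_rt r
  obtain ⟨g, hg⟩ := T.exists_W h
  refine ⟨g, hg.1, fun k l h' e => ?_⟩
  rcases vec_inj h h' (congrArg Subtype.val e) with ⟨rfl, rfl⟩ | ⟨rfl, rfl⟩
  · exact W_mv h.1 hg
  · exact W_mv h'.1 (pSt0.W_symm h.1 hg)

/-- The representatives of the reflections. -/
noncomputable def nn (r : Rt m κ) : f.Isom := (T.exists_n r).choose

theorem nn_mem (r : Rt m κ) : T.nn r ∈ fr.Mon := (T.exists_n r).choose_spec.1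

theorem nn_mv {i j : PM m} (h : Ok κ i j) (a : PM m) : fr.Mv (T.nn (rt h)) a (sw i j a) :=
  (T.exists_n _).choose_spec.2 i j h rfl a

theorem nn_inv_mul {i j : PM m} (h : Ok κ i j) {r : f.Isom} (hr : r ∈ WW fr i j) : (T.nn (rt h))⁻¹ * r ∈ HH fr :=
  fun a => (T.nn_mv h a).inv.mul (W_mv h.1 hr a)

theorem commute_U (h : κ ≠ 2) {i : PM m} {x y : f.Isom} (hx : x ∈ fr.U i) (hy : y ∈ fr.U i) : Commute x y := by
  obtain ⟨v, l, hx⟩ := hx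
  obtain ⟨v', l', hy⟩ := hy
  have h1 := hx.mul (fr.Qe i) hy
  have h2 := hy.mul (fr.Qe i) hx
  rw [add_comm v'] at h2
  exact h1.eq (h2.congr rfl (T.lam h _ _ _ h2.lam h1.lam))

variable (hm : 2 ≤ m)

theorem comm (r s : Rt m κ) (hs : s ≠ neg r) :
    ∀ x ∈ XX fr r, ∀ y ∈ XX fr s, ⁅x, y⁆ ∈ USub (XX fr) ((RS T.le hm).intv r s) := by
  let C : Rt m κ → Rt m κ → Prop := fun r s =>
    ∀ x ∈ XX fr r, ∀ y ∈ XX fr s, ⁅x, y⁆ ∈ USub (XX fr) ((RS T.le hm).intv r s)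
  have hκ := T.le
  have sy : ∀ {r s}, C r s → C s r := fun h x hx y hy => by
    simpa [intv_comm] using inv_mem (h y hy x hx)
  have c0 : ∀ {x y : f.Isom} {S}, Commute x y → ⁅x, y⁆ ∈ USub (XX (κ := κ) fr) S := fun h => by
    rw [h.commutator_eq]; exact one_mem _
  have c1 : ∀ {i j : PM m} (h : Ok κ i j) {r s : Rt m κ} (a b : ℕ), 0 < a → 0 < b →
      vec κ i j = (a : ℤ) • r.1 + (b : ℤ) • s.1 → fr.RX i j ≤ USub (XX fr) ((RS T.le hm).intv r s) :=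
    fun h _ _ a b ha hb e => (XX_rt h).ge.trans (le_USub (mem_intv T.le hm ha hb e))
  have AC : ∀ {i j : PM m} (h : Ok κ i j) (h' : Ok κ (-j) (-j)), j ≠ i → C (rt h) (rt h') := fun {i j} h h' e x hx y hy => by
    rw [XX_rt, fr.RX_of_ne e] at hx
    rw [XX_rt, fr.RX_self] at hy
    have h0 := h'.2.resolve_left (not_not.mpr rfl)
    refine (sup_le ?_ ?_ : fr.RS i (-j) ⊔ fr.RC i ≤ _) (fr.rgd.R5 i j e h.1 x hx y hy)
    · refine (fr.RX_of_ne (neg_ne_of h.1)).ge.trans (c1 ⟨neg_ne_neg_of e, .inr h0⟩ 1 (3 - κ) one_pos (by omega) ?_)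
      simp only [rt, vec, if_neg e, if_neg (neg_ne_of h.1), if_true, ev_neg]
      interval_cases κ
      · omega
      all_goals module
    · refine (fr.RX_self i).ge.trans (c1 ⟨(PM.neg_ne i).symm, .inr h0⟩ κ 1 (by omega) one_pos ?_)
      simp only [rt, vec, if_neg e, if_true, ev_neg]
      module
  have AA : ∀ {i j l : PM m} (h : Ok κ i j) (h' : Ok κ (-j) l), j ≠ i → l ≠ -j → l ≠ -i → C (rt h) (rt h') :=
    fun {i j l} h h' e e1 e2 x hx y hy => by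
    rw [XX_rt, fr.RX_of_ne e] at hx
    rw [XX_rt, fr.RX_of_ne e1] at hy
    by_cases e3 : l = i
    · subst e3
      have hy' := fr.RA_swap h'.1 hy
      by_cases h2 : κ = 2
      · refine c1 ⟨e2, .inr (by omega)⟩ 1 1 one_pos one_pos ?_ ((fr.RX_self l).ge (fr.rgd.R2 l j e h.1 x hx y hy'))
        simp only [rt, vec, if_neg e, if_neg e1, if_true, ev_neg, h2]
        module
      · exact c0 (T.commute_U h2 (fr.RA_subset_U hx) (fr.RA_subset_U hy'))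
    · refine c1 ⟨e2, .inl e3⟩ 1 1 one_pos one_pos ?_ ((fr.RX_of_ne e3).ge
        (fr.rgd.R3 i j l e h.1 e3 e2 (by simpa using h'.1) e1 x hx y hy))
      simp only [rt, vec, if_neg e, if_neg e1, if_neg e3, ev_neg]
      module
  have AC' : ∀ {i j k : PM m} (h : Ok κ i j) (h' : Ok κ k k), j ≠ i → C (rt h) (rt h') := fun {i j k} h h' e => by
    by_cases e1 : k = -j
    · subst e1; exact AC h h' e
    by_cases e2 : k = -i
    · subst e2; exact rt_symm h ▸ AC h.symm h' e.symm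
    intro x hx y hy
    rw [XX_rt, fr.RX_of_ne e] at hx
    rw [XX_rt, fr.RX_self] at hy
    exact c0 (fr.rgd.R4 i j k e h.1 e2 e1 x hx y hy)
  obtain ⟨i, j, h, rfl⟩ := exists_rt r
  obtain ⟨k, l, h', rfl⟩ := exists_rt s
  have a3 : ¬ (k = -i ∧ l = -j) := by rintro ⟨rfl, rfl⟩; exact hs (neg_rt h).symm
  have a4 : ¬ (k = -j ∧ l = -i) := by rintro ⟨rfl, rfl⟩; exact hs ((rt_symm _).trans (neg_rt h).symm)
  change C _ _
  by_cases e : j = i <;> by_cases e' : l = k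
  · subst e e'
    intro x hx y hy
    rw [XX_rt, fr.RX_self] at hx hy
    have e1 : l ≠ -j := fun e => a3 ⟨e, e⟩
    by_cases h1 : κ = 1
    · by_cases e2 : l = j
      · subst e2; exact c0 (T.commute_U (by omega) (fr.RC_le_U _ hx) (fr.RC_le_U _ hy))
      refine c1 ⟨e1, .inl e2⟩ 1 1 one_pos one_pos ?_ ((fr.RX_of_ne e2).ge (fr.rgd.R6 j l e2 e1 x hx y hy))
      simp [rt, vec, e2, h1]
    · exact c0 (fr.commute_RC hy (fr.RC_apply hx e1) fun v hv => by rw [T.V0 h1 v hv, map_zero])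
  · subst e; exact sy (AC' h' h e')
  · subst e'; exact AC' h h' e
  by_cases b1 : k = -j
  · subst b1; exact AA h h' e e' fun b => a4 ⟨rfl, b⟩
  by_cases b2 : k = -i
  · subst b2; exact rt_symm h ▸ AA h.symm h' (Ne.symm e) e' fun b => a3 ⟨rfl, b⟩
  by_cases b3 : l = -j
  · subst b3; exact rt_symm h' ▸ AA h h'.symm e (Ne.symm e') b2
  by_cases b4 : l = -i
  · subst b4; exact rt_symm h ▸ rt_symm h' ▸ AA h.symm h'.symm (Ne.symm e) (Ne.symm e') b1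
  intro x hx y hy
  rw [XX_rt, fr.RX_of_ne e] at hx
  rw [XX_rt, fr.RX_of_ne e'] at hy
  exact c0 (fr.rgd.R1 i j k l e h.1 e' h'.1 b2 b1 b4 b3 x hx y hy)

/-- The root group datum. -/
noncomputable def PG : PreRGD (RS T.le hm) f.Isom := .ofRoots (XX fr) (HH fr) T.nn
  (fun g hg r x hx => by
    obtain ⟨i, j, h, rfl⟩ := exists_rt r
    rw [XX_rt] at hx ⊢
    exact (hg i).conj_RX (HH_le_Mon hg) (hg j) hx)
  (fun r s x hx => by
    obtain ⟨i, j, h, rfl⟩ := exists_rt r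
    obtain ⟨k, l, h', rfl⟩ := exists_rt s
    rw [refl_rt, XX_rt] at *
    exact (T.nn_mv h k).conj_RX (T.nn_mem _) (T.nn_mv h l) hx)
  (fun r _ hg => Frame.conj_diag (T.nn_mem r) hg)
  (fun r a => by
    obtain ⟨i, j, h, rfl⟩ := exists_rt r
    simpa [sw_sw T.le h] using (T.nn_mv h _).mul (T.nn_mv h a))
  (fun r s a => by
    obtain ⟨i, j, h, rfl⟩ := exists_rt r
    obtain ⟨k, l, h', rfl⟩ := exists_rt s
    have h1 := (T.nn_mv (h.sw T.le h') (sw i j (sw i j a))).inv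
    rw [sw_conj (fun _ _ => sw_inj T.le h) (sw_neg T.le h), sw_sw T.le h a] at h1
    have h2 := (T.nn_mv h (sw i j a)).inv
    rw [sw_sw T.le h] at h2
    rw [refl_rt]
    exact h1.mul (((T.nn_mv h _).mul (T.nn_mv h' _)).mul h2))
  (T.comm hm)
  (fun r y hy h0 => by
    obtain ⟨i, j, h, rfl⟩ := exists_rt r
    rw [RS_neg, XX_rt] at hy
    obtain ⟨z, hz, z', hz', hw⟩ := pSt0.exists_W h.neg.1 (mem_XR.mpr hy) h0
    rw [neg_neg, neg_neg, mem_XR, ← XX_rt h] at hz hz'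
    refine ⟨_, inv_mem hz, (T.nn (rt h))⁻¹ * (z * y * z'), fun a => (T.nn_mv h a).inv.mul ?_, _, inv_mem hz', by group⟩
    exact sw_neg_neg T.le h a ▸ W_mv h.neg.1 hw a)

theorem PG_X {i j : PM m} (h : Ok κ i j) : (T.PG hm).X (rt h) = fr.RX i j := XX_rt h

theorem PG_H : (T.PG hm).H = HH fr := rfl

theorem nondeg : (T.PG hm).Nondeg := by
  refine ⟨fun r => ?_, eq_bot_iff.mpr fun g ⟨h1, h2⟩ => ?_⟩
  · obtain ⟨i, j, h, rfl⟩ := exists_rt r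
    obtain ⟨x, hx, h0⟩ := T.exists_ne_one h
    exact fun e => h0 (((T.PG_X hm h).symm.trans e).le hx)
  obtain ⟨u, hu, k, hk, e⟩ := (T.PG hm).mem_B_iff.mp h2
  have a1 := str_US (θ := fun i => -η i) (fun i => by rw [η_neg]) (fun i j h (e : ¬ _) => by
    have := η_ne h.1
    rw [isPos_rt] at e
    omega) h1
  have a2 := str_US η_neg (fun i j h e => (isPos_rt T.le hm h).mp e) hu
  have a3 : ∀ i, g.1 (fr.e i) = fr.e i := fun i => by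
    have b1 : g.1 (fr.e i) - fr.e i ∈ fr.V0 := fr.mem_V0.mpr fun l => by
      rw [← neg_neg l]
      by_cases b : η i ≤ η (-l)
      · exact B_Fl (a1 _ _ (e_mem_Fl le_rfl)) (by omega)
      obtain ⟨c, hc⟩ := hk i
      have b2 : f.B (fr.e i) (fr.e (- -l)) = 0 := fr.B_neg (by rintro rfl; omega)
      have b3 := B_Fl (a2 _ _ (e_mem_Fl (k := i) le_rfl)) (l := -l) (by omega)
      rw [B_sub_left, b2, sub_zero] at b3 ⊢
      rw [e, Isom.mul_apply, hc, map_smul, B_smul_left, b3, mul_zero]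
    have b2 := f.Q_add_of_orth (fr.mem_V0.mp b1 i)
    rw [sub_add_cancel, Isom.map_Q, fr.Qe, add_zero] at b2
    exact sub_eq_zero.mp (fr.aniso _ (fr.mem_V0.mp b1) b2.symm)
  refine fr.ext a3 fun v hv => sub_eq_zero.mp ?_
  have b1 := sub_mem (fr.mem_V0_of_mon (HH_le_Mon fun i => .of_eq (a3 i)) hv) hv
  exact T.nd _ b1 (B_Fl' (a1 0 v (V0_mem_Fl le_rfl hv)) one_pos b1)

theorem EG_le {N : Subgroup f.Isom} (h : ∀ r, (T.PG hm).X r ≤ N) : fr.EG ≤ N := by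
  refine fr.EG_le (fun i j a b => ?_) fun i => ?_
  · exact ((T.PG_X hm ⟨b, .inl a⟩).trans (fr.RX_of_ne a)).ge.trans (h _)
  by_cases h0 : κ = 0
  · rintro g ⟨v, hv, l, hg⟩
    obtain rfl := T.V0 (by omega) v hv
    exact (hg.congr rfl (T.lam (by omega) _ _ _ hg.lam (isE_one (fr.e i)).lam)).eq_one ▸ one_mem _
  · exact ((T.PG_X hm ⟨(PM.neg_ne i).symm, .inr h0⟩).trans (fr.RX_self i)).ge.trans (h _)

theorem X_le_EG (r : Rt m κ) : (T.PG hm).X r ≤ fr.EG := by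
  obtain ⟨i, j, h, rfl⟩ := exists_rt r
  exact (T.PG_X hm h).le.trans ((fr.RX_le_U i j).trans (fr.U_le_EG i))

theorem emb : (fold0 (T.PG hm)).Emb fr.EG.subtype :=
  ⟨ok0 (T.nondeg hm), Subtype.val_injective, fun _ => rfl, fun g => T.EG_le hm (T.PG hm).X_le_full g.2, by
    rw [Subgroup.range_subtype]
    refine (Subgroup.closure_le _).mpr ?_
    rintro g ⟨-, i, h | h⟩ <;> exact USub_le_iff.mpr (fun r _ => T.X_le_EG hm r) h⟩

theorem range_le : fr.EG.subtype.range ≤ (fold0 (T.PG hm)).gen := by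
  rw [Subgroup.range_subtype]
  refine T.EG_le hm fun r x hx => ?_
  by_cases h : (RS T.le hm).IsPos r
  · exact (ok0 (T.nondeg hm)).U_le_gen ((T.PG hm).X_le_U h hx) rfl
  · exact (ok0 (T.nondeg hm)).V_le_gen ((T.PG hm).X_le_V h hx) rfl

omit hm in
theorem commute_H {g g' : f.Isom} (h : g ∈ HH fr) (h' : g' ∈ HH fr) : Commute g g' := by
  obtain ⟨v0, h0, hv⟩ := T.gen
  refine fr.ext (fun i => ?_) fun v h1 => ?_
  · obtain ⟨c, hc⟩ := h i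
    obtain ⟨d, hd⟩ := h' i
    simp only [Isom.mul_apply, hc, hd, map_smul, smul_comm c]
  · obtain ⟨a, rfl⟩ := hv v h1
    obtain ⟨c, hc⟩ := hv _ (fr.mem_V0_of_mon (HH_le_Mon h) h0)
    obtain ⟨d, hd⟩ := hv _ (fr.mem_V0_of_mon (HH_le_Mon h') h0)
    simp only [Isom.mul_apply, hc, hd, map_smul, smul_comm c d]

omit hm in
theorem keyA {i j : PM m} (h1 : j ≠ i) (h2 : j ≠ -i) {a : F} {x : f.Isom} (ha : a ≠ 0)
    (hx : IsE x (fr.e i) (a • fr.e j) 0) : ∃ y ∈ fr.RX (-i) (-j), y * x * y ∈ fr.Mon ∧ FA fr i j a (y * x * y) := by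
  obtain ⟨y, hy⟩ := fr.exists_RA (i := -i) (j := -j) (neg_ne_neg_of h2)
    (P.σ (P.ε * (f.B (fr.e (-i)) (fr.e i) * a * f.B (fr.e j) (fr.e (-j)))⁻¹))
  obtain ⟨a1, a2, a3, a4⟩ := fr.W1_apply h1 h2 ha hx hy
  have a5 := fun k => fr.W1_fix (k := k) ⟨_, hx⟩ ⟨_, hy⟩ ⟨_, hy⟩
  rw [T.σ] at a2 a3
  exact ⟨y, (fr.RX_of_ne (neg_ne_neg_of h1)).ge ⟨_, hy⟩, fr.mon_of_W1 ⟨_, a3⟩ ⟨_, a1⟩ ⟨_, a4⟩ ⟨_, a2⟩ a5, a1, a2, a3, a4,
    a5, fun v hv => by simp only [Isom.mul_apply, fr.RA_apply_V0 ⟨_, hx⟩ hv, fr.RA_apply_V0 ⟨_, hy⟩ hv]⟩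

omit hm in
theorem exists_FA {i j : PM m} (h1 : j ≠ i) (h2 : j ≠ -i) {a : F} (ha : a ≠ 0) : ∃ r ∈ WW fr i j, FA fr i j a r := by
  obtain ⟨x, hx⟩ := fr.exists_RA h2 a
  obtain ⟨z, hz, b1, b2⟩ := T.keyA h1 h2 ha hx
  exact ⟨_, ⟨b1, x, mem_XR.mpr ((fr.RX_of_ne h1).ge ⟨a, hx⟩), (A_ne_one h1 hx).mpr ha, z, mem_XR.mpr hz, z,
    mem_XR.mpr hz, rfl⟩, b2⟩

omit hm in
theorem WA_iff {i j : PM m} (h1 : j ≠ i) (h2 : j ≠ -i) {r : f.Isom} : r ∈ WW fr i j ↔ ∃ a ≠ 0, FA fr i j a r := by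
  constructor
  · rintro ⟨hM, x, hx, h0, y, hy, y', hy', rfl⟩
    obtain ⟨a, ha⟩ := (fr.RX_of_ne h1).le hx.2
    obtain ⟨z, hz, b1, b2⟩ := T.keyA h1 h2 ((A_ne_one h1 ha).mp h0) ha
    obtain ⟨rfl, rfl⟩ := fr.W_unique h2 hx.2 h0 hy.2 hy'.2 hz hz hM b1
    exact ⟨a, (A_ne_one h1 ha).mp h0, b2⟩
  · rintro ⟨a, ha, h⟩
    obtain ⟨z, hz, b⟩ := T.exists_FA h1 h2 ha
    exact h.eq b ▸ hz

omit hm in
theorem WC_iff {i : PM m} {r : f.Isom} : r ∈ WW fr i i ↔ ∃ v ∈ fr.V0, ∃ l, f.IsLam v l ∧ l ≠ 0 ∧ FC fr i l r := by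
  have key : ∀ {v l x}, v ∈ fr.V0 → l ≠ 0 → IsE x (fr.e i) v l → ∃ y ∈ fr.RX (-i) (-i), ∃ y' ∈ fr.RX (-i) (-i),
      y * x * y' ∈ fr.Mon ∧ FC fr i l (y * x * y') := fun {v l x} hv l0 hx => by
    obtain ⟨a1, a2⟩ := fr.isLam_W2 (i := i) hx.lam l0
    obtain ⟨z, hz⟩ := exists_isE (fr.Qe (-i)) (fr.mem_V0.1 (Submodule.smul_mem _ _ hv) _) a1
    obtain ⟨z', hz'⟩ := exists_isE (fr.Qe (-i)) (fr.mem_V0.1 (Submodule.smul_mem _ _ hv) _) a2
    obtain ⟨b1, b2, b3⟩ := fr.W2_apply hv l0 hx hz hz'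
    have c1 : z ∈ fr.RC (-i) := ⟨_, Submodule.smul_mem _ _ hv, _, hz⟩
    have c2 : z' ∈ fr.RC (-i) := ⟨_, Submodule.smul_mem _ _ hv, _, hz'⟩
    have c3 := fun k => fr.W2_fix (k := k) ⟨v, hv, l, hx⟩ c1 c2
    rw [T.σ] at b2
    exact ⟨z, (fr.RX_self _).ge c1, z', (fr.RX_self _).ge c2, fr.mon_of_W1 ⟨_, b2⟩ ⟨_, b1⟩ ⟨_, b2⟩ ⟨_, b1⟩
      fun k a b _ _ => c3 k a b, b1, b2, c3, fun w hw => (b3 w hw).trans (T.refl v hv l hx.lam l0 w hw)⟩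
  constructor
  · rintro ⟨hM, x, hx, h0, y, hy, y', hy', rfl⟩
    obtain ⟨v, hv, l, hl⟩ := (fr.RX_self i).le hx.2
    obtain ⟨z, hz, z', hz', b1, b2⟩ := key hv ((C_ne_one hv hl).mp h0) hl
    obtain ⟨rfl, rfl⟩ := fr.W_unique (PM.neg_ne i).symm hx.2 h0 hy.2 hy'.2 hz hz' hM b1
    exact ⟨v, hv, l, hl.lam, (C_ne_one hv hl).mp h0, b2⟩
  · rintro ⟨v, hv, l, hl, l0, h⟩
    obtain ⟨x, hx⟩ := exists_isE (fr.Qe i) (fr.mem_V0.1 hv i) hl
    obtain ⟨z, hz, z', hz', b1, b2⟩ := key hv l0 hx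
    exact h.eq b2 ▸ ⟨b1, x, mem_XR.mpr ((fr.RX_self i).ge ⟨v, hv, l, hx⟩), (C_ne_one hv hx).mpr l0, z, mem_XR.mpr hz, z',
      mem_XR.mpr hz', rfl⟩

omit hm in
theorem W_tri {i j : PM m} (h : j ≠ -i) {x y z : f.Isom} (hx : x ∈ WW fr i j) (hy : y ∈ WW fr i j)
    (hz : z ∈ WW fr i j) : x * y * z ∈ WW fr i j := by
  by_cases e : j = i
  · subst e
    obtain ⟨u, hu, a, ha, a0, hx⟩ := T.WC_iff.mp hx
    obtain ⟨v, hv, b, hb, b0, hy⟩ := T.WC_iff.mp hy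
    obtain ⟨w, hw, c, hc, c0, hz⟩ := T.WC_iff.mp hz
    obtain ⟨t, ht, h1⟩ := T.tri u hu v hv w hw a b c ha hb hc
    exact T.WC_iff.mpr ⟨t, ht, _, by simpa only [T.σ] using h1.conj, by simp [a0, b0, c0, P.ε_ne_zero], hx.tri hy hz⟩
  · obtain ⟨a, a0, hx⟩ := (T.WA_iff e h).mp hx
    obtain ⟨b, b0, hy⟩ := (T.WA_iff e h).mp hy
    obtain ⟨c, c0, hz⟩ := (T.WA_iff e h).mp hz
    exact (T.WA_iff e h).mpr ⟨_, by simp [a0, b0, c0], hx.tri hy hz⟩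

theorem mem_MM {k : Fin m} {g : fr.EG} :
    g ∈ MM (fold0 (T.PG hm)) fr.EG.subtype k ↔ g.1 ∈ WW fr (-p1 κ k) (-p2 k) := by
  have h := ok_p (κ := κ) hm k
  have e1 : (T.PG hm).UL ((fold0 (T.PG hm)).orb k) = XR fr (MonoidHom.id _) fr.U (- -p1 κ k) (- -p2 k) := by
    rw [orb0, UL0, RS_simple, PG_X, neg_neg, neg_neg]; exact Subgroup.ext fun _ => mem_XR.symm
  have e2 : (T.PG hm).VL ((fold0 (T.PG hm)).orb k) = XR fr (MonoidHom.id _) fr.U (-p1 κ k) (-p2 k) := by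
    rw [orb0, VL0, RS_simple, RS_neg, PG_X]; exact Subgroup.ext fun _ => mem_XR.symm
  rw [MM, s0, e1, e2]
  constructor
  · rintro ⟨h1, x, y, x', hx, hy, hx', rfl⟩
    have h2 : (T.nn (rt h))⁻¹ * (x * y * x' : fr.EG).1 ∈ HH fr := (PreRGD.over_n k).inv_mul_mem h1
    refine ⟨by simpa using mul_mem (T.nn_mem (rt h)) (HH_le_Mon h2), y, hy, fun e => ?_, x, hx, x', hx', rfl⟩
    have h3 := (T.nn_mv h _).mul (h2 (p1 κ k))
    rw [mul_inv_cancel_left, sw, if_pos rfl] at h3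
    refine h.symm.1 (Frame.Mv.unique (.of_eq ?_) h3)
    rw [neg_neg, neg_neg] at hx hx'
    rw [fr.EG.coe_mul, fr.EG.coe_mul, e, mul_one]
    exact apply_self_of_mem_Eu (mul_mem hx.1 hx'.1)
  · intro hg
    refine ⟨(PreRGD.over_n k).of_inv_mul_mem fun a => (T.nn_mv h a).inv.mul (sw_neg_neg T.le h a ▸ W_mv h.neg.1 hg a), ?_⟩
    obtain ⟨-, y, hy, -, x, hx, x', hx', e⟩ := hg
    exact ⟨⟨x, fr.U_le_EG _ hx.1⟩, ⟨y, fr.U_le_EG _ hy.1⟩, ⟨x', fr.U_le_EG _ hx'.1⟩, hx, hy, hx', Subtype.ext e⟩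

theorem hT [Finite fr.EG] : (T.PG hm).H.comap fr.EG.subtype ≤ ⨆ i, TT (fold0 (T.PG hm)) fr.EG.subtype i :=
  hT_of_triple (T.emb hm) (T.range_le hm) fun i _ ha _ hb _ hc =>
    (T.mem_MM hm).mpr (T.W_tri (ok_p (κ := κ) hm i).neg.1 ((T.mem_MM hm).mp ha) ((T.mem_MM hm).mp hb) ((T.mem_MM hm).mp hc))

end Typ

end Cfsg.Agent.Gauss.BCD
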