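/-
Groups of relative rank two: every non-trivial element has a conjugate in the big cell of a maximal parabolic subgroup
whose Levi component may be multiplied by arbitrary elements of the fundamental root subgroup.
-/
import Cfsg.Agent.Lib.Gauss.Basic

set_option autoImplicit false

namespace Cfsg.Agent.Gauss

open Cfsg.Agent.Chev Cfsg.Agent.Chev.RSys Cfsg.Agent.Chev.PreRGD Cfsg.Agent.Chev.Fold

variable {ι I : Type*} [Fintype I] [DecidableEq I] {R : RSys ι I} {G : Type*} [Group G] {P : PreRGD R G}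
  [Fintype ι] [DecidableEq ι]

variable (P) in
/-- The double coset `P_J w₀ P_J`. -/
def Opp (J : Set I) (g : G) : Prop := ∃ p ∈ P.PJ J, ∃ p' ∈ P.PJ J, g = p * P.nW R.w0 * p'

section amb

variable {J : Set I} {g : G}

theorem Opp.mul_left {p : G} (hp : p ∈ P.PJ J) (h : Opp P J g) : Opp P J (p * g) := by
  obtain ⟨a, ha, b, hb, rfl⟩ := h
  exact ⟨p * a, mul_mem hp ha, b, hb, by simp [mul_assoc]⟩

theorem Opp.mul_right {p : G} (h : Opp P J g) (hp : p ∈ P.PJ J) : Opp P J (g * p) := by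
  obtain ⟨a, ha, b, hb, rfl⟩ := h
  exact ⟨a, ha, b * p, mul_mem hb hp, by simp [mul_assoc]⟩

theorem opp_mul_left {p : G} (hp : p ∈ P.PJ J) : Opp P J (p * g) ↔ Opp P J g :=
  ⟨fun h => by simpa using h.mul_left (inv_mem hp), fun h => h.mul_left hp⟩

theorem opp_mul_right {p : G} (hp : p ∈ P.PJ J) : Opp P J (g * p) ↔ Opp P J g :=
  ⟨fun h => by simpa using h.mul_right (inv_mem hp), fun h => h.mul_right hp⟩

theorem Opp.inv (h : Opp P J g) : Opp P J g⁻¹ := by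
  obtain ⟨a, ha, b, hb, rfl⟩ := h
  exact ⟨b⁻¹, inv_mem hb, (P.nW R.w0 * P.nW R.w0)⁻¹ * a⁻¹,
    mul_mem (inv_mem (P.B_le_PJ J (P.H_le_B w0_sq_mem_H))) (inv_mem ha), by simp [mul_assoc]⟩

theorem opp_inv : Opp P J g⁻¹ ↔ Opp P J g := ⟨fun h => by simpa using h.inv, Opp.inv⟩

theorem opp_eq (hw0 : ∀ r, R.w0 r = R.neg r) (J : Set I) : R.opp ⁻¹' J = J := by
  ext i
  have := R.w0_simple i
  rw [hw0, neg_inj', R.simple_inj.eq_iff] at this
  rw [Set.mem_preimage, ← this]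

theorem Opp.eq_one (hP : P.Nondeg) (hw0 : ∀ r, R.w0 r = R.neg r) (h : Opp P J g) {y : G} (hy : y ∈ P.UJ J)
    (h1 : g * y * g⁻¹ ∈ P.PJ J) : y = 1 := by
  obtain ⟨a, ha, b, hb, rfl⟩ := h
  have h2 := w0_conj_UJ (PJ_conj_UJ hb hy)
  rw [opp_eq hw0] at h2
  have h3 := hP.eq_one_of_mem_VJ_PJ h2 (by simpa [mul_assoc] using mul_mem (mul_mem (inv_mem ha) h1) ha)
  simpa [mul_inv_eq_one] using h3

theorem Opp.not_isPos (hP : P.Nondeg) (hw0 : ∀ r, R.w0 r = R.neg r) (h : Opp P J g) {w : Equiv.Perm ι}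
    (hw : w ∈ R.W) (hg : g ∈ P.cell w) {r : ι} (hr : R.IsPos r) (hJ : ¬ R.InSub J r) : ¬ R.IsPos (w r) := fun h1 => by
  obtain ⟨u, hu, k, hk, v, hv, rfl⟩ := (P.mem_cell_iff hw).mp hg
  obtain ⟨x, hx, hx1⟩ := hP.exists_ne_one r
  have hv' := P.U_le_PJ J (P.Uw_le_U w hv)
  have h2 : v⁻¹ * x * v ∈ P.UJ J := by
    simpa using PJ_conj_UJ (inv_mem hv') (mem_USub (S := {r | R.IsPos r ∧ ¬ R.InSub J r}) ⟨hr, hJ⟩ hx)
  have h3 := mul_mem (P.U_le_PJ J hu) (P.B_le_PJ J (P.H_le_B hk))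
  have := h.eq_one hP hw0 h2 (by
    simpa [mul_assoc] using mul_mem (mul_mem h3 (P.U_le_PJ J (P.X_le_U h1 (P.nW_conj_X hw r hx)))) (inv_mem h3))
  exact hx1 (by simpa [mul_assoc, inv_mul_eq_one] using this)

theorem opp_of_cell {w : Equiv.Perm ι} (hw : w ∈ R.W) (hg : g ∈ P.cell w)
    (h : ∀ r, R.IsPos r → ¬ R.InSub J r → ¬ R.IsPos (w r)) : Opp P J g := by
  have h1 : R.w0 * w ∈ R.WJ J := mem_WJ_of_invs (mul_mem w0_mem hw) fun r hr => by
    rw [mem_invs, Equiv.Perm.mul_apply, isPos_w0_iff, not_not] at hr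
    exact by_contra fun h' => h r hr.1 h' hr.2
  obtain ⟨b, hb, b', hb', rfl⟩ := hg
  obtain ⟨k, hk, e⟩ := P.exists_nW_mul w0_mem (mul_mem w0_mem hw)
  rw [← mul_assoc, w0_mul_self, one_mul] at e
  refine ⟨b, P.B_le_PJ J hb, P.nW (R.w0 * w) * k⁻¹ * b', mul_mem (mul_mem (P.NJ_le_PJ J (P.nW_mem_NJ h1))
    (inv_mem (P.B_le_PJ J (P.H_le_B hk)))) (P.B_le_PJ J hb'), ?_⟩
  rw [← mul_assoc, ← mul_assoc, mul_assoc b (P.nW R.w0), e]
  simp [mul_assoc]

theorem Opp.of_cell {w : Equiv.Perm ι} {g' : G} (h : Opp P J g) (hg : g ∈ P.cell w) (hg' : g' ∈ P.cell w) :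
    Opp P J g' := by
  obtain ⟨b, hb, c, hc, rfl⟩ := hg
  obtain ⟨b', hb', c', hc', rfl⟩ := hg'
  have := (h.mul_left (P.B_le_PJ J (mul_mem hb' (inv_mem hb)))).mul_right (P.B_le_PJ J (mul_mem (inv_mem hc) hc'))
  simpa [mul_assoc] using this

/-- The level of a root with respect to the nodes outside `J`. -/
noncomputable def lev (R : RSys ι I) (J : Set I) (r : ι) : ℤ := by
  classical exact ∑ i, if i ∈ J then 0 else R.rc r i

omit [Fintype ι] [DecidableEq ι] in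
theorem lev_comb {k r s : ι} {a b : ℤ} (h : R.rc k = a • R.rc r + b • R.rc s) :
    lev R J k = a * lev R J r + b * lev R J s := by
  simp only [lev, h, Finset.mul_sum, ← Finset.sum_add_distrib]
  refine Finset.sum_congr rfl fun i _ => ?_
  split_ifs <;> simp

omit [Fintype ι] [DecidableEq ι] in
theorem lev_nonneg {r : ι} (h : R.IsPos r ∨ R.InSub J r) : 0 ≤ lev R J r :=
  Finset.sum_nonneg fun i _ => by
    split_ifs with hi
    · exact le_rfl
    · exact h.elim (fun h => h i) fun h => (h i hi).ge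

omit [Fintype ι] [DecidableEq ι] in
theorem isPos_of_lev {r : ι} (h : 0 < lev R J r) : R.IsPos r := by
  by_contra h'
  refine absurd h (not_lt.mpr (Finset.sum_nonpos fun i _ => ?_))
  split_ifs
  · exact le_rfl
  · exact rc_nonpos_of_not_isPos h' i

omit [Fintype ι] [DecidableEq ι] in
theorem PJ_conj_lev (hP : P.Nondeg) [Fintype ι] [DecidableEq ι] {n : ℤ} (hn : 0 < n) {p u : G} (hp : p ∈ P.PJ J)
    (hu : u ∈ P.US {r | n ≤ lev R J r}) : p * u * p⁻¹ ∈ P.US {r | n ≤ lev R J r} := by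
  have h1 : P.US {r | R.IsPos r ∨ R.InSub J r} ≤ Subgroup.normalizer (P.US {r | n ≤ lev R J r} : Set G) := by
    refine (P.commOn ?_).le_normalizer ?_
    · rintro r hr s hs rfl
      have h2 := lev_comb (J := J) (R := R) (k := R.neg r) (r := r) (s := r) (a := -1) (b := 0) (by simp [R.rc_neg])
      have h3 := lev_nonneg hr
      simp only [Set.mem_ofPred_eq] at hs
      omega
    · rintro r hr s hs k ⟨a, b, ha, hb, e⟩
      have h2 := lev_comb (J := J) e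
      have h3 := lev_nonneg hr
      simp only [Set.mem_ofPred_eq] at hs ⊢
      nlinarith
  have h2 : P.PJ J ≤ Subgroup.normalizer (P.US {r | n ≤ lev R J r} : Set G) := by
    rw [hP.PJ_eq_sup]
    exact sup_le ((USub_mono fun _ h => Or.inl h.1).trans h1)
      (sup_le (P.H_le_normalizer_US _) ((USub_mono fun _ h => Or.inr h).trans h1))
  exact Subgroup.le_normalizer_iff.mp h2 p hp u hu

end amb

variable {F : Fold P} {Γ : Type*} [Group Γ] {f : Γ →* G} (E : F.Emb f)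
include E

theorem exists_UL_ne (i : I) : ∃ x, f x ∈ P.UL (F.orb i) ∧ x ≠ 1 := by
  obtain ⟨y, hy, h1⟩ := E.exists_VL_ne i
  exact ⟨E.n i * y * (E.n i)⁻¹, by simpa using (E.over_n i).w0J_conj_VL hy, by simpa [mul_inv_eq_one] using h1⟩

theorem levi_split {J : Set I} (hJ : F.StI J) {q : Γ} (hq : f q ∈ P.PJ J) :
    ∃ v l, f v ∈ P.UJ J ∧ f l ∈ P.LJ J ∧ q = v * l := by
  obtain ⟨w, hw, m, u, v, hm, hu, hv, rfl⟩ := E.bruhat q
  have h1 : w ∈ R.WJ J := E.nd.mem_WJ_of_mem_cell hw.1 (by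
    simpa using cell_mul_mem (mul_mem_cell (P.U_le_B hu) hm.mem_cell) (P.U_le_B (P.Uw_le_U w hv))) hq
  obtain ⟨v0, x, hv0, hx, rfl⟩ := E.split_UJ hJ hu
  refine ⟨v0, x * m * v, hv0, ?_, by simp [mul_assoc]⟩
  simpa using mul_mem (mul_mem (P.UL_le_LJ J hx) (E.nd.NJ_le_LJ J (hm.mem_NJ h1)))
    (P.UL_le_LJ J (Nondeg.Uw_le_UL h1 hv))

theorem mem_cell_of_bruhat {w : Equiv.Perm ι} {m u v : Γ} (hm : P.Over (f m) w) (hu : f u ∈ P.U) (hv : f v ∈ P.U) :
    f (u * m * v) ∈ P.cell w := by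
  simpa using cell_mul_mem (mul_mem_cell (P.U_le_B hu) hm.mem_cell) (P.U_le_B hv)

theorem exists_dcoset (b : I) (g : Γ) : ∃ d ∈ F.WF, R.IsPos (d (R.simple b)) ∧ R.IsPos (d⁻¹ (R.simple b)) ∧
    ∃ q m q', f q ∈ P.PJ (F.orb b) ∧ P.Over (f m) d ∧ f q' ∈ P.PJ (F.orb b) ∧ g = q * m * q' := by
  have hn := P.LJ_le_PJ _ (n_mem_LJ E (stI_orb b) (mem_orb_self b))
  obtain ⟨w, hw, h1, q, m, q', hq, hm, hq', rfl⟩ : ∃ w ∈ F.WF, R.IsPos (w (R.simple b)) ∧
      ∃ q m q', f q ∈ P.PJ (F.orb b) ∧ P.Over (f m) w ∧ f q' ∈ P.PJ (F.orb b) ∧ g = q * m * q' := by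
    obtain ⟨w, hw, m, u, v, hm, hu, hv, rfl⟩ := E.bruhat g
    have hv' := P.U_le_PJ (F.orb b) (P.Uw_le_U w hv)
    by_cases h : R.IsPos (w (R.simple b))
    · exact ⟨w, hw, h, u, m, v, P.U_le_PJ _ hu, hm, hv', rfl⟩
    · exact ⟨w * F.s b, mul_mem hw (s_mem b), (isPos_mul_s hw).mpr h, u, m * E.n b, (E.n b)⁻¹ * v, P.U_le_PJ _ hu,
        by simpa using hm.mul (E.over_n b), by simpa using mul_mem (inv_mem hn) hv', by simp [mul_assoc]⟩
  by_cases h : R.IsPos (w⁻¹ (R.simple b))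
  · exact ⟨w, hw, h1, h, q, m, q', hq, hm, hq', rfl⟩
  refine ⟨F.s b * w, mul_mem (s_mem b) hw, by_contra fun h2 => h ?_, ?_, q * (E.n b)⁻¹, E.n b * m, q',
    by simpa using mul_mem hq (inv_mem hn), by simpa using (E.over_n b).mul hm, hq', by simp [mul_assoc]⟩
  · obtain ⟨k, hk, e⟩ := exists_simple_of_exch hw h1 h2
    rw [← pos_orb (inv_mem hw) hk, ← e]
    simpa using R.isPos_simple b
  · rw [mul_inv_rev, s_inv]
    exact (isPos_mul_s (inv_mem hw)).mpr h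

variable [Finite Γ]

open Classical in
theorem sum_Uw {M : Type*} [AddCommMonoid M] {w : Equiv.Perm ι} (hw : w ∈ F.WF) {i : I}
    (hi : R.IsPos (w (R.simple i))) {m : Γ} (hm : P.Over (f m) w) (ψ : Γ → M) [Fintype Γ] :
    ∑ v : (P.Uw (w * F.s i)⁻¹).comap f, ψ v =
      ∑ v : (P.Uw w⁻¹).comap f, ∑ x : (P.UL (F.orb i)).comap f, ψ (v * (m * x * m⁻¹)) := by
  have hA := mem_Aut (inv_mem hw)
  have hAB : {r | R.IsPos r ∧ ¬ R.IsPos (w⁻¹ r)} ∪ ⇑w⁻¹ ⁻¹' {r | R.IsPos r ∧ R.InSub (F.orb i) r} =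
      {r | R.IsPos r ∧ ¬ R.IsPos ((w * F.s i)⁻¹ r)} := by
    ext r
    simp only [Set.mem_union, Set.mem_ofPred_eq, Set.mem_preimage, mul_inv_rev, s_inv, Equiv.Perm.mul_apply]
    constructor
    · rintro (⟨h1, h2⟩ | ⟨h1, h2⟩)
      · refine ⟨h1, ?_⟩
        rwa [isPos_apply_iff_of_not_inSub (s_mem_WJ i) fun h => ?_]
        exact not_isPos_of_orb' hw hi h2 h (by simpa using h1)
      · exact ⟨by simpa using isPos_of_orb hw hi h1 h2, not_isPos_w0J h1 h2⟩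
    · rintro ⟨h1, h2⟩
      by_cases h3 : R.IsPos (w⁻¹ r)
      · exact Or.inr ⟨h3, by_contra fun h => h2 ((isPos_apply_iff_of_not_inSub (s_mem_WJ i) h).mpr h3)⟩
      · exact Or.inl ⟨h1, h3⟩
  have hd : Disjoint {r | R.IsPos r ∧ ¬ R.IsPos (w⁻¹ r)} (⇑w⁻¹ ⁻¹' {r | R.IsPos r ∧ R.InSub (F.orb i) r}) :=
    Set.disjoint_left.mpr fun _ h h' => h.2 h'.1
  have cA := closed_pos_and_not (R := R) hA
  have cB := (closed_pos.inter (closed_inSub (R := R) (F.orb i))).preimage hA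
  have hx : ∀ {x : Γ}, f x ∈ P.UL (F.orb i) →
      f (m * x * m⁻¹) ∈ P.US (⇑w⁻¹ ⁻¹' {r | R.IsPos r ∧ R.InSub (F.orb i) r}) := fun hx => by
    simpa using hm.conj_US (T := ⇑w⁻¹ ⁻¹' {r | R.IsPos r ∧ R.InSub (F.orb i) r}) (fun r hr => by simpa using hr) hx
  rw [← Fintype.sum_prod_type']
  symm
  have hmem : ∀ p : (P.Uw w⁻¹).comap f × (P.UL (F.orb i)).comap f,
      p.1.1 * (m * p.2 * m⁻¹) ∈ (P.Uw (w * F.s i)⁻¹).comap f := fun p => by
    change f _ ∈ P.US _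
    rw [map_mul, ← hAB]
    exact mul_mem (USub_mono Set.subset_union_left p.1.2) (USub_mono Set.subset_union_right (hx p.2.2))
  refine Fintype.sum_bijective (fun p => ⟨p.1 * (m * p.2 * m⁻¹), hmem p⟩) ⟨fun p p' e => ?_, fun v => ?_⟩ _ _
    fun _ => rfl
  · have e1 := congrArg f (congrArg Subtype.val e)
    rw [map_mul, map_mul f p'.1.1] at e1
    obtain ⟨h1, h2⟩ := E.nd.US_unique halfSpace_pos cA cB (fun _ h => h.1)
      (fun r h => (hAB.le (Or.inr h)).1) hd p.1.2 p'.1.2 (hx p.2.2) (hx p'.2.2) e1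
    exact Prod.ext (Subtype.ext (E.inj h1)) (Subtype.ext (by simpa using E.inj h2))
  · obtain ⟨a, b, ha, hb, e⟩ := E.split_U (fun _ h => h.1)
      (closed_pos_and_not (mem_Aut (inv_mem (mul_mem hw (s_mem i))))) cA cB hAB hd
      (st_pos.inter (st_neg.preimage (inv_mem hw))) ((st_pos.inter (stI_orb i).st).preimage (inv_mem hw)) v.2
    refine ⟨(⟨a, ha⟩, ⟨m⁻¹ * b * m, ?_⟩), Subtype.ext (by simp [e, mul_assoc])⟩
    simpa [UL] using hm.inv.conj_US (T := {r | R.IsPos r ∧ R.InSub (F.orb i) r}) (fun r hr => hr) hb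

variable {p : ℕ} [Fact p.Prime] (hp : IsPGroup p (P.U.comap f))
include hp

theorem card_UL (i : I) : (Nat.card ((P.UL (F.orb i)).comap f) : ZMod p) = 0 := by
  obtain ⟨x, hx, h1⟩ := exists_UL_ne E i
  have h2 : IsPGroup p ((P.UL (F.orb i)).comap f) := hp.to_le (Subgroup.comap_mono (P.UL_le_U _))
  have : Nontrivial ((P.UL (F.orb i)).comap f) := ⟨⟨⟨x, hx⟩, 1, fun e => h1 (congrArg Subtype.val e)⟩⟩
  obtain ⟨n, hn, e⟩ := h2.nontrivial_iff_card.mp this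
  rw [e, Nat.cast_pow, ZMod.natCast_self, zero_pow hn.ne']

variable (hw0 : ∀ r, R.w0 r = R.neg r) {a b : I} (hab : a ∉ F.orb b)
include hw0 hab

open Classical in
theorem sum_step [Fintype Γ] (g : Γ) :
    ∑ x : (P.UL (F.orb a)).comap f, (if Opp P (F.orb b) (f (g * x * E.n a)) then 1 else 0 : ZMod p) =
      -if Opp P (F.orb b) (f g) then 1 else 0 := by
  have hc := card_UL E hp a
  rw [Nat.card_eq_fintype_card] at hc
  obtain ⟨w, hw, m, u, v, hm, hu, hv, rfl⟩ := E.bruhat g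
  have hv' := P.Uw_le_U w hv
  have hg := mem_cell_of_bruhat E hm hu hv'
  have ha : ¬ R.InSub (F.orb b) (R.simple a) := fun h => hab (inSub_simple.mp h)
  have hn := E.over_n a
  have key : ∀ {w : Equiv.Perm ι}, w ∈ F.WF → R.IsPos (w (R.simple a)) → ∀ {g g' : G}, g ∈ P.cell w →
      g' ∈ P.cell (F.s a) → g * g' ∈ P.cell (w * F.s a) := by
    rintro w hw h g _ hg ⟨c, hc, c', hc', rfl⟩
    have := cell_mul_mem (cell_mul_nW (P := P) hw.1 (s_mem (F := F) a).1 (fun r h1 h2 => by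
      rw [s_inv]
      exact (isPos_apply_iff_of_not_inSub (s_mem_WJ a) fun h3 => h2 (isPos_of_orb hw h h1 h3)).mpr h1)
      (cell_mul_mem hg hc)) hc'
    simpa [mul_assoc] using this
  by_cases h : R.IsPos (w (R.simple a))
  · rw [if_neg fun h1 => h1.not_isPos E.nd hw0 hw.1 hg (R.isPos_simple a) ha h, neg_zero]
    have h1 : ∀ x : (P.UL (F.orb a)).comap f, f (u * m * v * x * E.n a) ∈ P.cell (w * F.s a) := fun x => by
      rw [map_mul, map_mul _ _ x.1]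
      exact key hw h (cell_mul_mem hg (P.U_le_B (P.UL_le_U _ x.2))) hn.mem_cell
    rw [Finset.sum_congr rfl fun x _ => if_congr (Iff.intro (fun h => h.of_cell (h1 x) (h1 1))
      fun h => h.of_cell (h1 1) (h1 x)) rfl rfl, Finset.sum_const, Finset.card_univ, nsmul_eq_mul, hc, zero_mul]
  · obtain ⟨v', x1, hv1, hx1, rfl⟩ := E.split_UJ (stI_orb a) hv'
    have hw' := mul_mem hw (s_mem (F := F) a)
    have h' : R.IsPos ((w * F.s a) (R.simple a)) := (isPos_mul_s hw).mpr h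
    have h0 : f (u * m * (v' * x1) * x1⁻¹ * E.n a) ∈ P.cell (w * F.s a) := by
      have h1 : f ((E.n a)⁻¹ * v' * E.n a) ∈ P.U := by
        simpa using P.UJ_le_U _ (PJ_conj_UJ (inv_mem (P.LJ_le_PJ _ (n_mem_LJ E (stI_orb a) (mem_orb_self a)))) hv1)
      have := mem_cell_of_bruhat E (m := m * E.n a) (by simpa using hm.mul hn) hu h1
      simpa [mul_assoc] using this
    have h1 : ∀ x : (P.UL (F.orb a)).comap f, x ≠ ⟨x1⁻¹, inv_mem hx1⟩ →
        f (u * m * (v' * x1) * x * E.n a) ∈ P.cell w := fun x hx => by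
      have h2 : f ((E.n a)⁻¹ * (x1 * x) * E.n a) ∈ P.VL (F.orb a) := by
        simpa using (show P.Over (f (E.n a))⁻¹ (F.s a) by simpa using hn.inv).w0J_conj_UL (mul_mem hx1 x.2)
      obtain ⟨c, c', hc, hc', h3⟩ := E.rank1 h2 fun e => hx (Subtype.ext (by
        have e2 : x1 * x = 1 := by simpa [mul_assoc] using congrArg (fun z => E.n a * z * (E.n a)⁻¹) e
        exact eq_inv_of_mul_eq_one_right e2))
      have h4 := mem_cell_of_bruhat E h3 (u := c⁻¹) (v := c'⁻¹) (by simpa using P.UL_le_U _ hc)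
        (by simpa using P.UL_le_U _ hc')
      have h5 := key hw' h' h0 h4
      simpa [mul_assoc] using h5
    rw [← Finset.add_sum_erase _ _ (Finset.mem_univ ⟨x1⁻¹, inv_mem hx1⟩),
      if_neg fun h1 => h1.not_isPos E.nd hw0 hw'.1 h0 (R.isPos_simple a) ha h', zero_add,
      Finset.sum_congr rfl fun x hx => if_congr (Iff.intro (fun h => h.of_cell (h1 x (Finset.ne_of_mem_erase hx)) hg)
        fun h => h.of_cell hg (h1 x (Finset.ne_of_mem_erase hx))) rfl rfl, Finset.sum_const,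
      Finset.card_erase_of_mem (Finset.mem_univ _), Finset.card_univ, nsmul_eq_mul,
      Nat.cast_sub Fintype.card_pos, hc]
    split_ifs <;> simp

variable (hcov : ∀ i, i ∈ F.orb a ∨ i ∈ F.orb b) {r₁ : ι} (hr₁ : ¬ R.InSub (F.orb b) (F.s a r₁))
  (hlev : ∀ r, R.InSub (F.orb a) r → lev R (F.orb b) r < lev R (F.orb b) r₁)

omit E hp hw0 [Finite Γ] in
include hlev in
theorem lev_pos : 0 < lev R (F.orb b) r₁ :=
  (lev_nonneg (Or.inl (R.isPos_simple a))).trans_lt (hlev _ (inSub_simple.mpr (mem_orb_self a)))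

omit E hp hw0 [Finite Γ] in
include hlev in
theorem isPos_s_r₁ : R.IsPos (F.s a r₁) :=
  (isPos_apply_iff_of_not_inSub (s_mem_WJ a) fun h => lt_irrefl _ (hlev _ h)).mpr (isPos_of_lev (lev_pos hab hlev))

omit E hp hab [Finite Γ] in
theorem not_isPos_w' {r : ι} (hr : R.IsPos r) : ¬ R.IsPos ((R.w0 * F.s b) r) ↔ ¬ R.InSub (F.orb b) r := by
  rw [Equiv.Perm.mul_apply, isPos_w0_iff, not_not]
  exact ⟨fun h h' => not_isPos_w0J hr h' h, fun h => (isPos_apply_iff_of_not_inSub (s_mem_WJ b) h).mpr hr⟩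

omit E hp hab [Finite Γ] in
theorem w'_inv : (R.w0 * F.s b)⁻¹ = R.w0 * F.s b := by
  rw [mul_inv_rev, w0_inv, s_inv]
  ext r
  simp only [Equiv.Perm.mul_apply, hw0, Aut.neg_apply (mem_Aut (s_mem (F := F) b))]

omit E hp hab [Finite Γ] in
theorem Uw_w' : P.Uw (R.w0 * F.s b)⁻¹ = P.UJ (F.orb b) := by
  rw [w'_inv hw0, Uw, UJ]
  congr 1
  ext r
  exact and_congr_right fun h => not_isPos_w' hw0 h

include hcov hr₁ hlev

open Classical in
theorem sum_opp [Fintype Γ] : ∃ n, P.Over (f n) (R.w0 * F.s b) ∧ ∀ k : Γ,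
    ∑ v : (P.UJ (F.orb b)).comap f, (if Opp P (F.orb b) (f (k * v * n)) then 1 else 0 : ZMod p) = 0 := by
  have hw' : R.w0 * F.s b ∈ F.WF := mul_mem w0_mem_WF (s_mem b)
  have hw2 := mul_mem hw' (s_mem (F := F) a)
  have hw3 := mul_mem hw2 (s_mem (F := F) b)
  have h2 : R.IsPos ((R.w0 * F.s b * F.s a) (R.simple a)) := (isPos_mul_s hw').mpr
    ((not_isPos_w' hw0 (R.isPos_simple a)).mpr fun h => hab (inSub_simple.mp h))
  have h3 : R.IsPos ((R.w0 * F.s b * F.s a * F.s b) (R.simple b)) := (isPos_mul_s hw2).mpr fun h => by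
    have h4 := eq_one_of_forall_pos hw2.1 fun i =>
      (hcov i).elim (fun hi => (pos_orb hw2 hi).mpr h2) fun hi => (pos_orb hw2 hi).mpr h
    refine (not_isPos_w' hw0 (isPos_s_r₁ hab hlev)).mpr hr₁ ?_
    rw [← Equiv.Perm.mul_apply, h4]
    exact isPos_of_lev (lev_pos hab hlev)
  obtain ⟨m, hm⟩ := E.exists_over hw3
  have hm2 : P.Over (f (m * E.n b)) (R.w0 * F.s b * F.s a) := by simpa [mul_assoc] using hm.mul (E.over_n b)
  refine ⟨m * E.n b * E.n a, by simpa [mul_assoc] using hm2.mul (E.over_n a), fun k => ?_⟩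
  have e1 := sum_Uw E hw2 h2 hm2
    fun v => (if Opp P (F.orb b) (f (k * v * (m * E.n b * E.n a))) then 1 else 0 : ZMod p)
  rw [mul_assoc (R.w0 * F.s b), s_mul_self, mul_one, Uw_w' hw0] at e1
  have e2 := sum_Uw E hw3 h3 hm fun v => (if Opp P (F.orb b) (f (k * v * (m * E.n b))) then 1 else 0 : ZMod p)
  rw [mul_assoc (R.w0 * F.s b * F.s a), s_mul_self, mul_one] at e2
  have hc := card_UL E hp b
  rw [Nat.card_eq_fintype_card] at hc
  have e3 : ∀ v : Γ, ∑ x : (P.UL (F.orb a)).comap f, (if Opp P (F.orb b)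
      (f (k * (v * (m * E.n b * x * (m * E.n b)⁻¹)) * (m * E.n b * E.n a))) then 1 else 0 : ZMod p) =
      -if Opp P (F.orb b) (f (k * v * (m * E.n b))) then 1 else 0 := fun v => by
    rw [← sum_step E hp hw0 hab]
    refine Finset.sum_congr rfl fun x _ => ?_
    rw [show k * (v * (m * E.n b * x * (m * E.n b)⁻¹)) * (m * E.n b * E.n a) = k * v * (m * E.n b) * x * E.n a by
      simp [mul_assoc]]
  have e4 : ∀ v : Γ, ∑ x : (P.UL (F.orb b)).comap f, (if Opp P (F.orb b)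
      (f (k * (v * (m * x * m⁻¹)) * (m * E.n b))) then 1 else 0 : ZMod p) = 0 := fun v => by
    have : ∀ x : (P.UL (F.orb b)).comap f, Opp P (F.orb b) (f (k * (v * (m * x * m⁻¹)) * (m * E.n b))) ↔
        Opp P (F.orb b) (f (k * v * m)) := fun x => by
      rw [show k * (v * (m * x * m⁻¹)) * (m * E.n b) = k * v * m * (x * E.n b) by simp [mul_assoc], map_mul]
      refine opp_mul_right ?_
      rw [map_mul]
      exact P.LJ_le_PJ _ (mul_mem (P.UL_le_LJ _ x.2) (n_mem_LJ E (stI_orb b) (mem_orb_self b)))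
    simp only [this]
    rw [Finset.sum_const, Finset.card_univ, nsmul_eq_mul, hc, zero_mul]
  rw [e1]
  simp only [e3]
  rw [Finset.sum_neg_distrib, e2, neg_eq_zero]
  exact Finset.sum_eq_zero fun v _ => e4 v

/-- No element maps every point to an opposite point. -/
theorem exists_not_opp (hidx : ¬ p ∣ (P.U.comap f).index) (g : Γ) :
    ∃ x, ¬ Opp P (F.orb b) (f (x * g * x⁻¹)) := by
  classical
  by_contra hcon
  push Not at hcon
  have := Fintype.ofFinite Γ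
  obtain ⟨n, hn, hs⟩ := sum_opp E hp hw0 hab hcov hr₁ hlev
  let Q := (P.PJ (F.orb b)).comap f
  let A : Γ → Γ → ZMod p := fun x y => if Opp P (F.orb b) (f (x⁻¹ * y)) then 1 else 0
  have hA1 : ∀ x y : Γ, A (x : Γ ⧸ Q).out y = A x y := fun x y => by
    obtain ⟨q, e⟩ := QuotientGroup.mk_out_eq_mul Q x
    simp only [A, e, mul_inv_rev, mul_assoc, map_mul f (q : Γ)⁻¹]
    exact if_congr (opp_mul_left (Subgroup.mem_comap.mp (inv_mem q.2))) rfl rfl
  have hA2 : ∀ x y z : Γ, A x (z * (y : Γ ⧸ Q).out) = A x (z * y) := fun x y z => by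
    obtain ⟨q, e⟩ := QuotientGroup.mk_out_eq_mul Q y
    simp only [A, e, ← mul_assoc, map_mul f _ (q : Γ)]
    exact if_congr (opp_mul_right q.2) rfl rfl
  have hn' : Opp P (F.orb b) (f n) := opp_of_cell hn.1 hn.mem_cell fun r h1 h2 => (not_isPos_w' hw0 h1).mpr h2
  have key : ∀ x z : Γ, ∑ y : Γ ⧸ Q, A x y.out * A y.out z = 0 := fun x z => by
    rw [← hs (z⁻¹ * x)]
    symm
    refine Finset.sum_of_injOn (fun v : (P.UJ (F.orb b)).comap f => ((x * v * n : Γ) : Γ ⧸ Q)) ?_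
      (fun _ _ => Finset.mem_univ _) (fun y _ hy => ?_) fun v _ => ?_
    · intro v _ v' _ e
      have h1 : f (n⁻¹ * (v⁻¹ * v') * n) ∈ P.PJ (F.orb b) := by
        simpa [mul_assoc] using Subgroup.mem_comap.mp (QuotientGroup.eq.mp e)
      have h2 := hn'.inv.eq_one E.nd hw0 (y := f (v⁻¹ * v')) (by simpa using mul_mem (inv_mem v.2) v'.2)
        (by simpa using h1)
      exact Subtype.ext (inv_mul_eq_one.mp (E.inj (by simpa using h2)))
    · refine mul_eq_zero_of_left (if_neg fun h => hy ?_) _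
      obtain ⟨w, hw, m, u, v, hm, hu, hv, e⟩ := E.bruhat (x⁻¹ * y.out)
      have hv' := P.Uw_le_U w hv
      have h1 : (R.w0 * F.s b)⁻¹ * w ∈ R.WJ (F.orb b) := by
        rw [w'_inv hw0, ← w'_inv (b := b) hw0, mul_inv_rev, s_inv, w0_inv, mul_assoc]
        refine mul_mem (s_mem_WJ b) (mem_WJ_of_invs (mul_mem w0_mem hw.1) fun r hr => ?_)
        rw [mem_invs, Equiv.Perm.mul_apply, isPos_w0_iff, not_not] at hr
        exact by_contra fun h' => h.not_isPos E.nd hw0 hw.1 (e ▸ mem_cell_of_bruhat E hm hu hv') hr.1 h' hr.2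
      obtain ⟨v0, c, hv0, hc, rfl⟩ := E.split_UJ (stI_orb b) hu
      refine ⟨⟨v0, hv0⟩, Finset.mem_coe.mpr (Finset.mem_univ _), ?_⟩
      rw [← y.out_eq]
      refine QuotientGroup.eq.mpr (Subgroup.mem_comap.mpr ?_)
      have h2 : (f n)⁻¹ * f c * f n ∈ P.PJ (F.orb b) := by
        have := hn.inv.conj_US (S := {r | R.IsPos r ∧ R.InSub (F.orb b) r}) (T := {r | R.IsPos r}) (fun r hr => by
          rw [w'_inv hw0]
          exact by_contra fun h' => (not_isPos_w' hw0 hr.1).mp h' hr.2) hc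
        simpa using P.U_le_PJ _ this
      have h3 : (x * v0 * n)⁻¹ * y.out = n⁻¹ * c * n * (n⁻¹ * m) * v := by
        rw [eq_mul_of_inv_mul_eq e]; simp [mul_assoc]
      rw [h3]
      simpa using mul_mem (mul_mem h2 (P.NJ_le_PJ _ ((hn.inv.mul hm).mem_NJ h1))) (P.U_le_PJ _ hv')
    · have h1 := hA2 x (x * v * n) 1
      rw [one_mul, one_mul] at h1
      rw [h1, hA1]
      have h2 : A x (x * v * n) = 1 := if_pos (by simpa [mul_assoc] using hn'.mul_left (P.UJ_le_PJ _ v.2))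
      rw [h2, one_mul]
      exact if_congr (by rw [← opp_inv, ← map_inv]; simp [mul_assoc]) rfl rfl
  let M : Matrix (Γ ⧸ Q) (Γ ⧸ Q) (ZMod p) := fun x y => A x.out (g * y.out)
  have hM : M * M = 0 := by
    ext x z
    rw [Matrix.mul_apply, Matrix.zero_apply, ← key x.out (g * (g * z.out))]
    refine Fintype.sum_equiv (MulAction.toPerm g) _ _ fun y => ?_
    have h1 : (MulAction.toPerm g y : Γ ⧸ Q) = ((g * y.out : Γ) : Γ ⧸ Q) := by
      conv_lhs => rw [← y.out_eq]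
      rfl
    have h2 := hA2 x.out (g * y.out) 1
    rw [one_mul, one_mul] at h2
    rw [h1, h2, hA1]
    simp [M, A, mul_assoc]
  have h1 := (Matrix.isNilpotent_trace_of_isNilpotent (M := M) ⟨2, by rw [pow_two, hM]⟩).eq_zero
  have h2 : M.trace = Fintype.card (Γ ⧸ Q) := by
    have : ∀ x, M x x = 1 := fun x => if_pos (by simpa [mul_assoc] using hcon x.out⁻¹)
    simp [Matrix.trace, this]
  rw [h2, ZMod.natCast_eq_zero_iff, ← Nat.card_eq_fintype_card] at h1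
  exact hidx (h1.trans (Subgroup.index_dvd_of_le (Subgroup.comap_mono (P.U_le_PJ _))))

omit hp hcov in
theorem not_opp_conj {g : Γ} (h1 : f g ∈ P.PJ (F.orb b)) : ¬ Opp P (F.orb b) (f (E.n a * g * (E.n a)⁻¹)) := fun h3 => by
  obtain ⟨y, hy, hy1⟩ := E.nd.exists_ne_one r₁
  have hn := E.over_n a
  have h4 : f (E.n a) * y * (f (E.n a))⁻¹ ∈ P.UJ (F.orb b) :=
    mem_USub (S := {r | R.IsPos r ∧ ¬ R.InSub (F.orb b) r}) ⟨isPos_s_r₁ hab hlev, hr₁⟩ (hn.conj_X hy)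
  have h5 := hn.conj_US (T := {r | R.IsPos r}) (fun r hr => (isPos_apply_iff_of_not_inSub (s_mem_WJ a)
      fun h => (hlev _ h).not_ge hr).mpr (isPos_of_lev ((lev_pos hab hlev).trans_le hr)))
    (PJ_conj_lev E.nd (lev_pos hab hlev) h1 (mem_USub (S := {r | lev R (F.orb b) r₁ ≤ lev R (F.orb b) r})
      (le_refl (lev R (F.orb b) r₁)) hy))
  have h6 := h3.eq_one E.nd hw0 h4 (by simpa [mul_assoc] using P.U_le_PJ _ h5)
  exact hy1 (by simpa [mul_inv_eq_one] using h6)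

omit hp hw0 hab hr₁ hlev [Finite Γ] in
theorem eq_top_of_mem (hf : f.range ≤ F.gen) {S : Subgroup Γ} (hQ : ∀ y, f y ∈ P.PJ (F.orb b) → y ∈ S)
    (hna : E.n a ∈ S) (y : Γ) : y ∈ S := by
  have := E.sbn_full (rep := id) (fun i => ⟨i, mem_orb_self i⟩) hf
  refine (show (E.sbn id).full ≤ S from sup_le (fun u hu => hQ u (P.U_le_PJ _ hu))
    ((Subgroup.closure_le _).mpr ?_)) (this ▸ Subgroup.mem_top y)
  rintro _ ⟨i, rfl⟩
  change E.n i ∈ S
  rcases hcov i with hi | hi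
  · have h2 : f ((E.n a)⁻¹ * E.n i) ∈ P.H := by
      simpa using (E.over_n a).inv_mul_mem (s_eq hi ▸ E.over_n i)
    simpa using mul_mem hna (hQ _ (P.B_le_PJ _ (P.H_le_B h2)))
  · exact hQ _ (P.LJ_le_PJ _ (n_mem_LJ E (stI_orb b) hi))

theorem exists_generic (hidx : ¬ p ∣ (P.U.comap f).index) (hf : f.range ≤ F.gen)
    (hconn : ∀ S : I → Bool, (∀ i j, R.C i j ≠ 0 → S i = S j) → ∀ i j, S i = S j)
    (hz : ∀ g : Γ, f g ∈ P.H → (∀ y, f y ∈ P.V → Commute g y) → g = 1) {g : Γ} (hg : g ≠ 1) :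
    ∃ x, f (x * g * x⁻¹) ∉ P.PJ (F.orb b) ∧ ¬ Opp P (F.orb b) (f (x * g * x⁻¹)) := by
  by_cases h : ∃ x, f (x * g * x⁻¹) ∈ P.PJ (F.orb b) ∧ f (E.n a * x * g * (E.n a * x)⁻¹) ∉ P.PJ (F.orb b)
  · obtain ⟨x, h1, h2⟩ := h
    refine ⟨_, h2, ?_⟩
    rw [show E.n a * x * g * (E.n a * x)⁻¹ = E.n a * (x * g * x⁻¹) * (E.n a)⁻¹ by group]
    exact not_opp_conj E hw0 hab hr₁ hlev h1
  obtain ⟨x, hx⟩ := exists_not_opp E hp hw0 hab hcov hr₁ hlev hidx g
  refine ⟨x, fun h1 => ?_, hx⟩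
  push Not at h
  obtain ⟨T, hT⟩ : ∃ T : Γ → Prop, ∀ z, T z ↔ f (z * g * z⁻¹) ∈ P.PJ (F.orb b) := ⟨_, fun _ => Iff.rfl⟩
  obtain ⟨S, hS⟩ : ∃ S : Subgroup Γ, ∀ y, y ∈ S ↔ ∀ z, T z ↔ T (y * z) :=
    ⟨{ carrier := {y | ∀ z, T z ↔ T (y * z)}
       one_mem' := by simp
       mul_mem' := fun {c d} hc hd z => by rw [hd, hc, mul_assoc c d]
       inv_mem' := fun {c} hc z => by rw [hc (c⁻¹ * z), mul_inv_cancel_left] }, fun _ => Iff.rfl⟩
  have hQ : ∀ y, f y ∈ P.PJ (F.orb b) → ∀ z, T z ↔ T (y * z) := fun y hy z => by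
    rw [hT, hT]
    exact ⟨fun h => by simpa [mul_assoc] using mul_mem (mul_mem hy h) (inv_mem hy),
      fun h => by simpa [mul_assoc] using mul_mem (mul_mem (inv_mem hy) h) hy⟩
  simp only [← hT] at h h1
  have hna : E.n a ∈ S := (hS _).mpr fun z => ⟨h z, fun h2 => by
    have h0 : f (E.n a * E.n a)⁻¹ ∈ P.H := by
      simpa using over_one_iff.mp (by simpa using ((E.over_n a).mul (E.over_n a)).inv)
    have h3 := (hQ _ (P.B_le_PJ _ (P.H_le_B h0)) _).mp (h _ h2)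
    simpa only [mul_assoc, mul_inv_rev, inv_mul_cancel_left] using h3⟩
  have h2 : ∀ y, f (y * g * y⁻¹) ∈ P.PJ (F.orb b) := fun y => by
    have := ((hS _).mp (eq_top_of_mem E hcov hf (fun y hy => (hS y).mpr (hQ y hy)) hna (y * x⁻¹)) x).mp h1
    rwa [inv_mul_cancel_right, hT] at this
  obtain ⟨y, hy⟩ := exists_full E hconn hz hg
  have h3 : F.orb b ⊆ (F.orb a)ᶜ := fun j hj h => hab (by rw [← orb_eq hj, orb_eq h]; exact mem_orb_self a)
  exact hy a (P.PJ_mono h3 (h2 y))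

omit E hp hw0 hr₁ hlev [Finite Γ] in
theorem eq_w'_of_inSub {d : Equiv.Perm ι} (hd : d ∈ F.WF) (h1 : R.IsPos (d (R.simple b))) (h2 : d ≠ 1) {r : ι}
    (hr : R.IsPos r) (hr' : R.InSub (F.orb b) r) (h3 : R.InSub (F.orb b) (d r)) : d = R.w0 * F.s b := by
  obtain ⟨k, hk, e⟩ := exists_simple_of_exch (j := b) hd h1 fun h =>
    not_isPos_w0J (isPos_of_orb hd h1 hr hr') h3 (isPos_of_orb (mul_mem (s_mem b) hd) h hr hr')
  have h4 : ¬ R.IsPos (d (R.simple a)) := fun h => h2 (eq_one_of_forall_pos hd.1 fun i =>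
    (hcov i).elim (fun hi => (pos_orb hd hi).mpr h) fun hi => (pos_orb hd hi).mpr h1)
  have h5 : ¬ R.InSub (F.orb b) (d (R.simple a)) := fun h => hab ((inSub_simple (R := R)).mp (by
    have := inSub_of_simple (inv_mem hd) (k := b) (i := k) (by rw [← e]; simp) (orb_eq hk ▸ h)
    simpa using this))
  have h6 : d * F.s b = F.s b * d := mul_inv_eq_iff_eq_mul.mp ((conj_s hd e).trans (s_eq hk))
  have hw := mul_mem hd (s_mem (F := F) b)
  have h7 : R.w0 * (d * F.s b) = 1 := eq_one_of_forall_pos (mul_mem w0_mem hw.1) fun i => by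
    rw [Equiv.Perm.mul_apply, isPos_w0_iff]
    refine (hcov i).elim (fun hi => ?_) fun hi => ?_
    · rw [pos_orb hw hi, h6, Equiv.Perm.mul_apply, isPos_apply_iff_of_not_inSub (s_mem_WJ b) h5]
      exact h4
    · rw [pos_orb hw hi, isPos_mul_s hd]
      exact not_not.mpr h1
  rw [← w0_inv, inv_mul_eq_one] at h7
  rw [h7, mul_assoc, s_mul_self, mul_one]

/-- Conjugates of a non-trivial element in the big cell of the parabolic subgroup of `b`. -/
theorem exists_levi (hidx : ¬ p ∣ (P.U.comap f).index) (hf : f.range ≤ F.gen)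
    (hc : ∀ h h' : Γ, f h ∈ P.H → f h' ∈ P.H → Commute h h')
    (hconn : ∀ S : I → Bool, (∀ i j, R.C i j ≠ 0 → S i = S j) → ∀ i j, S i = S j)
    (hz : ∀ g : Γ, f g ∈ P.H → (∀ y, f y ∈ P.V → Commute g y) → g = 1) {g : Γ} (hg : g ≠ 1) :
    ∃ l, f l ∈ P.LJ (F.orb b) ∧ ∀ t ∈ TT F f a, ∃ y, f y ∈ P.VL (F.orb b) ∧ ∀ c, f c ∈ P.UL (F.orb b) →
      ∃ v u, f v ∈ P.VJ (F.orb b) ∧ f u ∈ P.UJ (F.orb b) ∧ IsConj g (v * (l * y * t * c) * u) := by
  obtain ⟨x, hx1, hx2⟩ := exists_generic E hp hw0 hab hcov hr₁ hlev hidx hf hconn hz hg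
  obtain ⟨d, hd, h1, h2, q, m0, q', hq, hm0, hq', e⟩ := exists_dcoset E b (x * g * x⁻¹)
  obtain ⟨J, hJ, hdJ, m, hm, h3⟩ := reach E hc hd
  have hdb : d ∉ R.WJ (F.orb b) := fun h => hx1 (by
    rw [e, map_mul, map_mul]; exact mul_mem (mul_mem hq (P.NJ_le_PJ _ (hm0.mem_NJ h))) hq')
  have haJ : a ∈ J := by_contra fun h => hdb (R.WJ_mono (fun j hj => (hcov j).resolve_left fun h' =>
    h (hJ.orb_subset hj (by rw [orb_eq h']; exact mem_orb_self a))) hdJ)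
  have h4 : ∀ r, R.IsPos r → R.InSub (F.orb b) r → ¬ R.InSub (F.orb b) (d r) := fun r hr hr' h => hx2 (by
    have h5 := eq_w'_of_inSub hab hcov hd h1 (fun h => hdb (h ▸ one_mem _)) hr hr' h
    rw [e, map_mul, map_mul]
    exact ((opp_of_cell hm0.1 hm0.mem_cell fun r h1 h2 => h5 ▸ (not_isPos_w' hw0 h1).mpr h2).mul_left hq).mul_right hq')
  have hk : f (m0 * m⁻¹) ∈ P.H := by simpa using hm0.mul_inv_mem hm
  obtain ⟨v0, l, hv0, hl, e1⟩ := levi_split E (stI_orb b) (q := q' * q * (m0 * m⁻¹)) (by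
    rw [map_mul, map_mul]; exact mul_mem (mul_mem hq' hq) (P.B_le_PJ _ (P.H_le_B hk)))
  refine ⟨l, hl, fun t ht => ?_⟩
  obtain ⟨y, v, u, hy, hv, hu, e2⟩ := h3 t (le_iSup₂ (f := fun j (_ : j ∈ J) => TT F f j) a haJ ht)
  obtain ⟨v', y0, hv', hy0, rfl⟩ := split_V' E (stI_orb b) hv
  obtain ⟨x0, u', hx0, hu', rfl⟩ := split_U' E (stI_orb b) hu
  refine ⟨y0, hy0, fun c hc => ?_⟩
  have hc' : f (x0⁻¹ * c) ∈ P.UL (F.orb b) := by simpa using mul_mem (inv_mem hx0) hc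
  have h5 : f (y * (m * (x0⁻¹ * c) * m⁻¹)) ∈ P.UJ (F.orb b) := by
    rw [map_mul]
    refine mul_mem (USub_mono (S := {r | R.IsPos r ∧ ¬ R.IsPos (d⁻¹ r)})
      (T := {r | R.IsPos r ∧ ¬ R.InSub (F.orb b) r})
      (fun r hr => ⟨hr.1, fun h => hr.2 (isPos_of_orb (inv_mem hd) h2 hr.1 h)⟩) hy) ?_
    simpa [UJ] using hm.conj_US (T := {r | R.IsPos r ∧ ¬ R.InSub (F.orb b) r})
      (fun r hr => ⟨isPos_of_orb hd h1 hr.1 hr.2, h4 r hr.1 hr.2⟩) hc'
  have h6 : f (l * (y * (m * (x0⁻¹ * c) * m⁻¹)) * l⁻¹ * v0⁻¹) ∈ P.UJ (F.orb b) := by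
    rw [map_mul, map_mul, map_mul, map_inv, map_inv]
    exact mul_mem (PJ_conj_UJ (P.LJ_le_PJ _ hl) h5) (inv_mem hv0)
  refine ⟨l * v' * l⁻¹, (x0⁻¹ * c)⁻¹ * u' * (x0⁻¹ * c) * (l * (y * (m * (x0⁻¹ * c) * m⁻¹)) * l⁻¹ * v0⁻¹)⁻¹,
    by simpa using LJ_conj_VJ hl hv', ?_,
    isConj_iff.mpr ⟨l * (y * (m * (x0⁻¹ * c) * m⁻¹)) * l⁻¹ * v0⁻¹ * q' * x, ?_⟩⟩
  · rw [map_mul, map_inv f (_ * v0⁻¹)]
    refine mul_mem ?_ (inv_mem h6)
    simpa using PJ_conj_UJ (inv_mem (P.U_le_PJ _ (P.UL_le_U _ hc'))) hu'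
  · obtain ⟨z, hz⟩ : ∃ z, z = l * (y * (m * (x0⁻¹ * c) * m⁻¹)) * l⁻¹ * v0⁻¹ := ⟨_, rfl⟩
    rw [← hz]
    calc _ = z * q' * (x * g * x⁻¹) * q'⁻¹ * z⁻¹ := by group
      _ = z * (q' * q * (m0 * m⁻¹)) * m * z⁻¹ := by rw [e]; group
      _ = l * (y * m) * (x0⁻¹ * c) * z⁻¹ := by rw [e1]; nth_rw 1 [hz]; group
      _ = _ := by rw [e2]; group

end Cfsg.Agent.Gauss
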