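/-
Squares of conjugacy classes of elements of a Levi subgroup without fixed points on the unipotent radicals.
-/
import Cfsg.Agent.Lib.Gauss.Rank2
import Cfsg.Agent.Lib.SL2.ClassProd
import Cfsg.Agent.Lib.SL2.Bruhat
import Cfsg.Agent.Lib.CExt.SL2D

set_option autoImplicit false
set_option backward.isDefEq.respectTransparency false

namespace Cfsg.Agent.Gauss

open Cfsg.Agent.Chev Cfsg.Agent.Chev.RSys Cfsg.Agent.Chev.PreRGD Cfsg.Agent.Chev.Fold Cfsg.Agent.SL2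
open scoped MatrixGroups

section grp

variable {Γ : Type*} [Group Γ]

/-- `g` is a product of two conjugates of `x`. -/
def P2 (x g : Γ) : Prop := ∃ u v, g = u * x * u⁻¹ * (v * x * v⁻¹)

theorem P2.of_isConj {x g a b : Γ} (ha : IsConj x a) (hb : IsConj x b) (h : IsConj g (a * b)) : P2 x g := by
  obtain ⟨u, rfl⟩ := isConj_iff.mp ha
  obtain ⟨v, rfl⟩ := isConj_iff.mp hb
  obtain ⟨c, e⟩ := isConj_iff.mp h.symm
  exact ⟨c * u, c * v, by rw [← e]; group⟩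

theorem P2.map {Γ' : Type*} [Group Γ'] (e : Γ →* Γ') {x g : Γ} (h : P2 x g) : P2 (e x) (e g) := by
  obtain ⟨u, v, rfl⟩ := h
  exact ⟨e u, e v, by simp⟩

theorem P2.one {x : Γ} (h : IsConj x x⁻¹) : P2 x 1 := .of_isConj (IsConj.refl x) h (by simp)

theorem isConj_mul_left (K : Subgroup Γ) [Finite K] {h : Γ} (hK : ∀ w ∈ K, h * w * h⁻¹ ∈ K)
    (hc : ∀ w ∈ K, Commute w h → w = 1) {v : Γ} (hv : v ∈ K) : IsConj h (v * h) := by
  obtain ⟨w, hw⟩ := Finite.surjective_of_injective (f := fun w : K =>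
    (⟨w * (h * (w : Γ)⁻¹ * h⁻¹), mul_mem w.2 (hK _ (inv_mem w.2))⟩ : K)) (fun w w' e => by
      have e1 : (w : Γ) * (h * (w : Γ)⁻¹ * h⁻¹) = w' * (h * (w' : Γ)⁻¹ * h⁻¹) := congrArg Subtype.val e
      have := hc _ (mul_mem (inv_mem w'.2) w.2) (show _ * _ = _ * _ by
        calc (w' : Γ)⁻¹ * w * h = (w' : Γ)⁻¹ * (w * (h * (w : Γ)⁻¹ * h⁻¹)) * h * w := by group
          _ = _ := by rw [e1]; group)
      exact Subtype.ext (inv_mul_eq_one.1 this).symm) ⟨v, hv⟩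
  exact isConj_iff.2 ⟨w, by rw [← show _ = v from congrArg Subtype.val hw]; simp [mul_assoc]⟩

theorem isConj_mul_right (K : Subgroup Γ) [Finite K] {h : Γ} (hK : ∀ w ∈ K, h * w * h⁻¹ ∈ K)
    (hc : ∀ w ∈ K, Commute w h → w = 1) {v : Γ} (hv : v ∈ K) : IsConj h (h * v) := by
  simpa using isConj_mul_left K hK hc (hK v hv)

theorem exists_sl2 {K : Type*} [Field K] [Finite K] {x y : K → Γ} (h : SL2D x y) :
    ∃ l : SL(2, K) →* Γ, (∀ a, l (up a) = x a) ∧ ∀ a, l (lo a) = y a := by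
  let L := Subgroup.closure (Set.range (fun a => (x a, up a)) ∪ Set.range fun a => (y a, lo a))
  let x' : K → L := fun a => ⟨(x a, up a), Subgroup.subset_closure (Or.inl ⟨a, rfl⟩)⟩
  let y' : K → L := fun a => ⟨(y a, lo a), Subgroup.subset_closure (Or.inr ⟨a, rfl⟩)⟩
  let π : L →* SL(2, K) := (MonoidHom.snd _ _).comp L.subtype
  have hb : Function.Bijective π := by
    refine ⟨steinberg_injective (x := x') (y := y') (fun a b => Subtype.ext (Prod.ext (h.x_add a b) (up_mul a b).symm))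
      (fun a b => Subtype.ext (Prod.ext (h.y_add a b) (lo_mul a b).symm))
      (fun t u ht => Subtype.ext (Prod.ext ((h.conj_x t ht u).trans (congrArg y (by ring))) ?_)) ?_ π
      (fun _ => rfl) fun _ => rfl, ?_⟩
    · change up t * lo (-t⁻¹) * up t * up u * (up t * lo (-t⁻¹) * up t)⁻¹ = lo _
      rw [mul_inv_eq_iff_eq_mul]
      apply SL_ext
      simp only [SL_coe_mul]
      apply mat_ext <;> simp [ht] <;> field_simp <;> ring
    · apply Subgroup.map_injective L.subtype_injective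
      rw [MonoidHom.map_closure, ← MonoidHom.range_eq_map, Subgroup.range_subtype, Set.image_union,
        ← Set.range_comp, ← Set.range_comp]
      rfl
    · rw [← MonoidHom.range_eq_top]
      exact eq_top_of_up_lo (fun a => ⟨x' a, rfl⟩) fun a => ⟨y' a, rfl⟩
  refine ⟨((MonoidHom.fst _ _).comp L.subtype).comp (MulEquiv.ofBijective π hb).symm.toMonoidHom,
    fun a => ?_, fun a => ?_⟩
  · have : (MulEquiv.ofBijective π hb).symm (up a) = x' a := (MulEquiv.symm_apply_eq _).2 rfl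
    simp [this, x']
  · have : (MulEquiv.ofBijective π hb).symm (lo a) = y' a := (MulEquiv.symm_apply_eq _).2 rfl
    simp [this, y']

theorem n_mul_h {K : Type*} [Field K] [Finite K] {x y : K → Γ} (h : SL2D x y) {t v : K} (ht : t ≠ 0) (hv : v ≠ 0) :
    sl2n x y t * sl2h x y v = sl2n x y (t * v⁻¹) := by
  have h1 := (h.acts_h hv).inv.conj_n t
  have h2 := h.h_mul hv (mul_ne_zero (inv_ne_zero (pow_ne_zero 2 hv)) ht)
  rw [show v * ((v ^ 2)⁻¹ * t) = t * v⁻¹ by field_simp] at h2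
  have h3 : sl2h x y v * sl2n x y ((v ^ 2)⁻¹ * t) = sl2n x y (t * v⁻¹) := by
    simpa [sl2h, mul_assoc] using congrArg (· * sl2n x y 1) h2
  rw [← h3, ← h1]
  simp [mul_assoc]

/-- Every coset of the unitriangular group in `SL₂` meets the square of a regular semisimple class. -/
theorem sl2_good {K : Type*} [Field K] [Finite K] {x : SL(2, K)} (hx : x.1.trace ^ 2 ≠ 4) (A : SL(2, K)) :
    ∃ s a b, IsConj x a ∧ IsConj x b ∧ A * up s = a * b := by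
  suffices ∃ s, ∃ a b : SL(2, K), a.1.trace = x.1.trace ∧ b.1.trace = x.1.trace ∧ a * b = A * up s by
    obtain ⟨s, a, b, ha, hb, e⟩ := this
    exact ⟨s, a, b, SL_isConj_of_trace' ha.symm hx, SL_isConj_of_trace' hb.symm hx, e.symm⟩
  have key : ∀ s, (A * up s).1.trace ^ 2 ≠ 4 →
      ∃ a b : SL(2, K), a.1.trace = x.1.trace ∧ b.1.trace = x.1.trace ∧ a * b = A * up s := fun s hs =>
    exists_mul_of_GL_conj (SL_not_isScal_of_trace hs) (h := cmp (A * up s).1.trace) (not_isScal_comp _ _) (by simp)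
      (exists_traces _ _ hs)
  by_cases h : A.1 1 0 = 0
  swap
  · refine ⟨(x.1.trace - A.1 0 0 - A.1 1 1) / A.1 1 0, key _ ?_⟩
    rwa [show (A * up ((x.1.trace - A.1 0 0 - A.1 1 1) / A.1 1 0)).1.trace = x.1.trace by
      rw [Matrix.trace_fin_two, SL_coe_mul, mul_apply2, mul_apply2]; simp; field_simp; ring]
  by_cases h4 : (A * up 0).1.trace ^ 2 = 4
  swap
  · exact ⟨0, key 0 h4⟩
  have hd := SL_det A
  rw [h, mul_zero, sub_zero] at hd
  rw [up_zero, mul_one, Matrix.trace_fin_two] at h4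
  have h1 : A.1 1 1 = A.1 0 0 := by
    have : (A.1 1 1 - A.1 0 0) ^ 2 = 0 := by linear_combination h4 - 4 * hd
    exact sub_eq_zero.mp (pow_eq_zero_iff two_ne_zero |>.mp this)
  rw [h1] at hd
  by_cases h2 : A.1 0 0 = 1
  · refine ⟨-A.1 0 1, x, x⁻¹, rfl, SL_trace_inv x, SL_ext ?_⟩
    rw [mul_inv_cancel]
    apply mat_ext <;> simp [mul_apply2, h, h1, h2]
  have h3 : A.1 0 0 = -1 := (mul_self_eq_one_iff.mp hd).resolve_left h2
  by_cases h5 : x.1.trace = 0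
  · refine ⟨A.1 0 1, x, x, rfl, rfl, SL_ext ?_⟩
    rw [SL_coe_mul, mul_self_eq, h5, x.2]
    apply mat_ext <;> simp [mul_apply2, h, h1, h3]
  have h6 : (2 : K) ≠ 0 := fun e => h2 (by linear_combination h3 - e)
  let C : SL(2, K) := ⟨!![0, (2 * x.1.trace)⁻¹; -(2 * x.1.trace), x.1.trace], by
    rw [Matrix.det_fin_two_of]; field_simp; simp⟩
  refine ⟨A.1 0 1 + 1, C⁻¹, -(C * up 1), by rw [SL_trace_inv]; simp [C, Matrix.trace_fin_two],
    by simp [C, Matrix.trace_fin_two]; ring, SL_ext ?_⟩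
  rw [mul_neg, inv_mul_cancel_left]
  apply mat_ext <;> simp [mul_apply2, h, h1, h3]

end grp

variable {ι I : Type*} [Fintype I] [DecidableEq I] {R : RSys ι I} {G : Type*} [Group G] {P : PreRGD R G}
  [Fintype ι] [DecidableEq ι] {Γ : Type*} [Group Γ] {f : Γ →* G}

variable (P f) in
/-- An element of the Levi subgroup without fixed points on the two unipotent radicals. -/
structure Fpf (J : Set I) (x : Γ) : Prop where
  mem : f x ∈ P.LJ J
  pos : ∀ u, f u ∈ P.UJ J → Commute u x → u = 1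
  neg : ∀ u, f u ∈ P.VJ J → Commute u x → u = 1

namespace Fpf

variable {J : Set I} {x : Γ}

theorem conj (h : Fpf P f J x) {l : Γ} (hl : f l ∈ P.LJ J) : Fpf P f J (l * x * l⁻¹) := by
  have key : ∀ u : Γ, Commute u (l * x * l⁻¹) → Commute (l⁻¹ * u * l) x := fun u hc => by
    simpa [mul_assoc] using hc.map (MulAut.conj l⁻¹)
  refine ⟨by simpa using mul_mem (mul_mem hl h.mem) (inv_mem hl), fun u hu hc => ?_, fun u hu hc => ?_⟩
  · simpa [mul_assoc, inv_mul_eq_one] using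
      h.pos _ (by simpa using PJ_conj_UJ (inv_mem (P.LJ_le_PJ _ hl)) hu) (key u hc)
  · simpa [mul_assoc, inv_mul_eq_one] using h.neg _ (by simpa using LJ_conj_VJ (inv_mem hl) hu) (key u hc)

theorem inv (h : Fpf P f J x) : Fpf P f J x⁻¹ :=
  ⟨by simpa using h.mem, fun u hu hc => h.pos u hu (by simpa using hc.inv_right),
    fun u hu hc => h.neg u hu (by simpa using hc.inv_right)⟩

theorem of_pow (hx : f x ∈ P.LJ J) {n : ℕ} (h : Fpf P f J (x ^ n)) : Fpf P f J x :=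
  ⟨hx, fun u hu hc => h.pos u hu (hc.pow_right n), fun u hu hc => h.neg u hu (hc.pow_right n)⟩

theorem p2 [Finite Γ] {a b g v u : Γ} (ha : Fpf P f J a) (hb : Fpf P f J b) (ha' : IsConj x a) (hb' : IsConj x b)
    (hv : f v ∈ P.VJ J) (hu : f u ∈ P.UJ J) (h : IsConj g (v * (a * b) * u)) : P2 x g :=
  .of_isConj (ha'.trans (isConj_mul_left ((P.VJ J).comap f)
      (fun w hw => by simpa using LJ_conj_VJ ha.mem hw) ha.neg hv))
    (hb'.trans (isConj_mul_right ((P.UJ J).comap f)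
      (fun w hw => by simpa using PJ_conj_UJ (P.LJ_le_PJ _ hb.mem) hw) hb.pos hu)) (by simpa [mul_assoc] using h)

end Fpf

variable {F : Fold P} (E : F.Emb f)
include E

theorem hz_of_U (hz : ∀ g : Γ, f g ∈ P.H → (∀ y, f y ∈ P.U → Commute g y) → g = 1) (g : Γ) (hg : f g ∈ P.H)
    (h : ∀ y, f y ∈ P.V → Commute g y) : g = 1 := by
  obtain ⟨m, hm⟩ := E.exists_over (w0_mem_WF (F := F))
  have := hz (m * g * m⁻¹) (by simpa using hm.conj_H hg) fun y hy => by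
    have h1 : f (m⁻¹ * y * m) ∈ P.V := by
      simpa [V] using hm.inv.conj_US (T := {r | ¬ R.IsPos r}) (fun r hr => by
        rw [w0_inv, Set.mem_ofPred_eq, isPos_w0_iff, not_not]; exact hr) hy
    simpa [mul_assoc] using (h _ h1).map (MulAut.conj m)
  simpa [mul_inv_eq_one] using this

/-- The square of the class of a regular toral element contains all non-trivial elements. -/
theorem p2_of_regular [Finite Γ] (hc : ∀ h h' : Γ, f h ∈ P.H → f h' ∈ P.H → Commute h h')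
    (hconn : ∀ S : I → Bool, (∀ i j, R.C i j ≠ 0 → S i = S j) → ∀ i j, S i = S j)
    (hz : ∀ g : Γ, f g ∈ P.H → (∀ y, f y ∈ P.V → Commute g y) → g = 1)
    (hT : P.H.comap f ≤ ⨆ i, TT F f i) {x : Γ} (hx : Fpf P f ∅ x) {g : Γ} (hg : g ≠ 1) : P2 x g := by
  have h1 : f x ∈ P.H := LJ_empty (P := P) ▸ hx.mem
  obtain ⟨v, u, hv, hu, h⟩ := gauss E hc hconn hz hT hg (h := x * x) (by simpa using mul_mem h1 h1)
  exact hx.p2 hx (IsConj.refl x) (IsConj.refl x) (by simpa [VJ, V, not_inSub_empty] using hv)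
    (by simpa [UJ, U, not_inSub_empty] using hu) h

theorem hT_of_odd [Finite Γ] (hc : ∀ h h' : Γ, f h ∈ P.H → f h' ∈ P.H → Commute h h')
    (h1 : ∀ m h, P.Over (f m) R.w0 → f h ∈ P.H → m⁻¹ * h * m = h⁻¹) (h2 : ∀ h, f h ∈ P.H → Odd (orderOf h)) :
    P.H.comap f ≤ ⨆ i, TT F f i := fun h hh => by
  obtain ⟨m, hm, e⟩ : ∃ m, P.Over (f m) R.w0 ∧ ∀ h, f h ∈ P.H → m⁻¹ * h * m * h⁻¹ ∈ ⨆ i, TT F f i := by
    refine WF_induction (C := fun w => ∃ m, P.Over (f m) w ∧ ∀ h, f h ∈ P.H → m⁻¹ * h * m * h⁻¹ ∈ ⨆ i, TT F f i)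
      ⟨1, over_one_iff.mpr (by simp), fun h _ => by simp⟩ ?_ (w0_mem_WF (F := F))
    rintro w - i - ⟨m, hm, e⟩
    refine ⟨m * E.n i, by simpa using hm.mul (E.over_n i), fun h hh => ?_⟩
    have := mul_mem (le_iSup (TT F f) i (comm_mem_TT E hc i (h := m⁻¹ * h * m) (by simpa using hm.inv.conj_H hh)))
      (e h hh)
    simpa [mul_assoc] using this
  have h3 := e h hh
  rw [h1 m h hm hh, ← mul_inv_rev, inv_mem_iff, ← sq] at h3
  obtain ⟨k, hk⟩ := h2 h hh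
  have h4 := pow_mem (inv_mem h3) k
  rwa [inv_pow, ← pow_mul, ← eq_inv_of_mul_eq_one_right (by rw [← pow_succ, ← hk, pow_orderOf_eq_one])] at h4

section sl2

variable {K : Type*} [Field K] [Finite K] {x y : K → Γ} {b : I} (hb : (E.sbn id).IsSL2 b x y)
include hb

theorem T_le_TT [Finite Γ] : (E.sbn id).T b ≤ TT F f b := by
  rw [hb.T_eq]
  rintro _ ⟨v, rfl⟩
  have hM : ∀ m, m ∈ MM F f b ↔ m ∈ (E.sbn id).M b := fun m =>
    ⟨fun ⟨h1, a, c, a', ha, hc, ha', e⟩ => ⟨⟨a, ha, c, hc, a', ha', e⟩, show f ((E.n b)⁻¹ * m) ∈ P.H by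
      simpa using (E.over_n b).inv_mul_mem h1⟩,
    fun ⟨⟨a, ha, c, hc, a', ha', e⟩, h1⟩ => ⟨(E.over_n b).of_inv_mul_mem (by
      simpa using (show f ((E.n b)⁻¹ * m) ∈ P.H from h1)), a, c, a', ha, hc, ha', e⟩⟩
  refine mem_TT ((E.sbn id).T_le_H b (hb.T_eq ▸ ⟨v, rfl⟩)) fun m hm => ?_
  obtain ⟨t, ht, rfl⟩ := hb.exists_of_mem_M ((hM m).mp hm)
  rw [SL2D.hHom_apply, n_mul_h hb.toSL2D ht v.ne_zero]
  exact (hM _).mpr (hb.n_mem_M (mul_ne_zero ht (inv_ne_zero v.ne_zero)))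

variable {φ : SL(2, K) →* Γ} (h1 : ∀ t, φ (up t) = x t) (h2 : ∀ t, φ (lo t) = y t)
include h1 h2

omit [Finite K] in
theorem map_mem_LJ (A : SL(2, K)) : f (φ A) ∈ P.LJ (F.orb b) :=
  SL_induction (fun A => f (φ A) ∈ P.LJ (F.orb b)) (fun t => h1 t ▸ P.UL_le_LJ _ (hb.x_mem t))
    (fun t => h2 t ▸ P.GJ_le_LJ _ (VL_le_GJ _ (hb.y_mem t))) (fun _ _ ha hb => by simpa using mul_mem ha hb) A

omit [Finite K] in
theorem H_le_normalizer [Finite Γ] : P.H.comap f ≤ Subgroup.normalizer (φ.range : Set Γ) :=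
  Subgroup.le_normalizer_iff.mpr fun k hk => by
    rintro _ ⟨A, rfl⟩
    obtain ⟨c, -, e1, e2⟩ := hb.acts k hk
    exact SL_induction (fun A => k * φ A * k⁻¹ ∈ φ.range) (fun t => ⟨up (c * t), by rw [h1, h1, e1]⟩)
      (fun t => ⟨lo (c⁻¹ * t), by rw [h2, h2, e2]⟩) (fun _ _ ha hb => by simpa [mul_assoc] using mul_mem ha hb) A

omit [Finite K] in
theorem MM_subset {m : Γ} (hm : m ∈ MM F f b) : m ∈ φ.range := by
  obtain ⟨-, a, c, a', ha, hc, ha', rfl⟩ := hm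
  obtain ⟨t, rfl⟩ := (hb.mem_X a).mp ha
  obtain ⟨t', rfl⟩ := (hb.mem_X a').mp ha'
  obtain ⟨u, rfl⟩ := (hb.mem_Y c).mp hc
  exact mul_mem (mul_mem ⟨_, h1 t⟩ ⟨_, h2 u⟩) ⟨_, h1 t'⟩

omit [Finite K] in
theorem mem_sup_of_LJ {l : Γ} (hl : f l ∈ P.LJ (F.orb b)) : l ∈ P.H.comap f ⊔ φ.range := by
  obtain ⟨w, hw, m, u, v, hm, hu, hv, rfl⟩ := E.bruhat l
  have h3 : w ∈ R.WJ (F.orb b) :=
    E.nd.mem_WJ_of_mem_cell hw.1 (mem_cell_of_bruhat E hm hu (P.Uw_le_U w hv)) (P.LJ_le_PJ _ hl)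
  have hv' := Nondeg.Uw_le_UL h3 hv
  have hm' := E.nd.NJ_le_LJ _ (hm.mem_NJ h3)
  have hu' := E.nd.mem_UL_of_mem_U_LJ hu
    (by simpa using mul_mem (mul_mem hl (inv_mem (P.UL_le_LJ _ hv'))) (inv_mem hm'))
  obtain ⟨t, rfl⟩ := (hb.mem_X u).mp hu'
  obtain ⟨t', rfl⟩ := (hb.mem_X v).mp hv'
  refine mul_mem (mul_mem (Subgroup.mem_sup_right ⟨_, h1 t⟩) ?_) (Subgroup.mem_sup_right ⟨_, h1 t'⟩)
  rcases eq_one_or_s hw h3 with rfl | rfl
  · exact Subgroup.mem_sup_left (over_one_iff.mp hm)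
  · have h4 : (E.n b)⁻¹ * m ∈ P.H.comap f := by simpa using (E.over_n b).inv_mul_mem hm
    simpa using mul_mem (Subgroup.mem_sup_right (MM_subset E hb h1 h2 (n_mem_MM E b))) (Subgroup.mem_sup_left h4)

omit [Finite K] in
/-- Groups of relative rank two with a node of type `SL₂`. -/
theorem p2_of_levi [Finite Γ] {p : ℕ} [Fact p.Prime] (hp : IsPGroup p (P.U.comap f)) (hw0 : ∀ r, R.w0 r = R.neg r)
    {a : I} (hab : a ∉ F.orb b) (hcov : ∀ i, i ∈ F.orb a ∨ i ∈ F.orb b) {r₁ : ι}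
    (hr₁ : ¬ R.InSub (F.orb b) (F.s a r₁))
    (hlev : ∀ r, R.InSub (F.orb a) r → lev R (F.orb b) r < lev R (F.orb b) r₁)
    (hidx : ¬ p ∣ (P.U.comap f).index) (hf : f.range ≤ F.gen)
    (hc : ∀ h h' : Γ, f h ∈ P.H → f h' ∈ P.H → Commute h h')
    (hconn : ∀ S : I → Bool, (∀ i j, R.C i j ≠ 0 → S i = S j) → ∀ i j, S i = S j)
    (hz : ∀ g : Γ, f g ∈ P.H → (∀ y, f y ∈ P.V → Commute g y) → g = 1) (hT : P.H.comap f ≤ ⨆ i, TT F f i)
    {c k : Γ} (hk : f k ∈ P.H) (good : ∀ A, ∃ s c₁ c₂, Fpf P f (F.orb b) c₁ ∧ Fpf P f (F.orb b) c₂ ∧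
      IsConj c c₁ ∧ IsConj c c₂ ∧ k * φ (A * up s) = c₁ * c₂) {g : Γ} (hg : g ≠ 1) : P2 c g := by
  obtain ⟨l, hl, h3⟩ := exists_levi E hp hw0 hab hcov hr₁ hlev hidx hf hc hconn hz hg
  have hN := H_le_normalizer E hb h1 h2
  have h4 : P.H.comap f ⊔ φ.range ≤ TT F f a ⊔ φ.range := sup_le (hT.trans (iSup_le fun i => (hcov i).elim
    (fun h => (TT_eq h).le.trans le_sup_left) fun h => (TT_eq h).le.trans (le_sup_of_le_right fun t ht => by
      simpa using mul_mem (inv_mem (MM_subset E hb h1 h2 (n_mem_MM E b)))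
        (MM_subset E hb h1 h2 ((ht.2 _).mp (n_mem_MM E b)))))) le_sup_right
  obtain ⟨t, ht, z, hz', e⟩ := (mem_sup_iff_of_le_normalizer ((TT_le_H a).trans hN)).mp
    (h4 (mul_mem (inv_mem (mem_sup_of_LJ E hb h1 h2 hl)) (Subgroup.mem_sup_left hk)))
  obtain ⟨y0, hy0, h5⟩ := h3 t ht
  obtain ⟨u, rfl⟩ := (hb.mem_Y y0).mp hy0
  obtain ⟨A, hA⟩ : k⁻¹ * (l * y u * t) ∈ φ.range := by
    have h6 := Subgroup.le_normalizer_iff.mp hN t⁻¹ (inv_mem ht.1) _ ⟨_, h2 u⟩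
    have h7 : k⁻¹ * l = z⁻¹ * t⁻¹ := by rw [← mul_inv_rev, ← e]; simp
    simpa [← mul_assoc, h7] using mul_mem (inv_mem hz') h6
  obtain ⟨s, c₁, c₂, e1, e2, e3, e4, e5⟩ := good A
  obtain ⟨v, u', hv, hu', h6⟩ := h5 (x s) (hb.x_mem s)
  refine e1.p2 e2 e3 e4 hv hu' ?_
  rwa [← e5, map_mul, hA, h1, ← mul_assoc k, mul_inv_cancel_left]

omit hb h1 h2 E in
theorem good_of_central {z : Γ} (hz : ∀ A, Commute z (φ A)) (hφ : ∀ A, f (φ A) ∈ P.LJ (F.orb b)) {x0 : SL(2, K)}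
    (hx : x0.1.trace ^ 2 ≠ 4) (h : Fpf P f (F.orb b) (z * φ x0)) (A : SL(2, K)) :
    ∃ s c₁ c₂, Fpf P f (F.orb b) c₁ ∧ Fpf P f (F.orb b) c₂ ∧
      IsConj (z * φ x0) c₁ ∧ IsConj (z * φ x0) c₂ ∧ z * z * φ (A * up s) = c₁ * c₂ := by
  obtain ⟨s, a, b, ha, hb, e⟩ := sl2_good hx A
  obtain ⟨u, rfl⟩ := isConj_iff.mp ha
  obtain ⟨v, rfl⟩ := isConj_iff.mp hb
  refine ⟨s, _, _, h.conj (hφ u), h.conj (hφ v), isConj_iff.mpr ⟨_, rfl⟩, isConj_iff.mpr ⟨_, rfl⟩, ?_⟩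
  have key : ∀ u, φ u * (z * φ x0) * (φ u)⁻¹ = z * φ (u * x0 * u⁻¹) := fun u => by
    rw [← mul_assoc, ← (hz u).eq]; simp [mul_assoc]
  rw [key, key, e, map_mul φ (u * x0 * u⁻¹), mul_assoc z (φ _), ← mul_assoc (φ _), ← (hz _).eq]
  simp only [mul_assoc]

end sl2

theorem hT_of_sl2 [Finite Γ] (hf : f.range ≤ F.gen) (h : ∀ i, (E.sbn id).T i ≤ TT F f i) :
    P.H.comap f ≤ ⨆ i, TT F f i := fun g hg => by
  have h1 := SBN.mem_H1 (S := E.sbn id) (E.sbn_full (fun i => ⟨i, mem_orb_self i⟩) hf ▸ Subgroup.mem_top g) hg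
  rw [SBN.H1_eq] at h1
  exact iSup_mono h h1

end Cfsg.Agent.Gauss
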