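/-
The hypotheses of the Gauss decomposition for twisted and untwisted adjoint Chevalley groups.
-/
import Cfsg.Agent.Lib.Gauss.Levi
import Cfsg.Agent.Lib.Tw.OutB
import Cfsg.Agent.Lib.Tw.InstF4
import Cfsg.Agent.Lib.Chev.Full

set_option autoImplicit false

namespace Cfsg.Agent.Gauss

open Cfsg.Lie Cfsg.Agent.Chev Cfsg.Agent.Chev.RSys Cfsg.Agent.Chev.PreRGD Cfsg.Agent.Chev.Fold Cfsg.Agent.ChevM
  Cfsg.Agent.SL2
open scoped MatrixGroups

variable {D : ChevalleyDatum} [Tab D] {K : Type*} [Field K]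

/-- The trivial twist. -/
def tw0 : TwData := ⟨0, id, id, id, fun _ => false, fun _ => false⟩

omit [Tab D] in
theorem twist0 : Twist D tw0 :=
  ⟨fun _ h => h, fun _ h => h, fun _ _ => rfl, fun _ _ => rfl, fun _ _ => rfl, fun _ _ => rfl, fun _ _ => rfl,
    fun _ h => h, fun _ _ => rfl, fun _ _ => rfl, fun _ _ => rfl, fun r _ s _ _ _ => by
      simp [TwData.pairB, TwData.termsA, TwData.termsB, tw0, TwData.ε, TwData.e]⟩

omit [Tab D] in
theorem per0 : Per D tw0 1 := ⟨rfl, one_pos, fun _ _ => rfl, fun r _ => by simp [kr, sgnP, TwData.ε, tw0],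
  fun r _ a ha b hb h => by rw [kr_fix rfl] at ha hb; omega⟩

variable (D K) in
theorem isTw0 : IsTw D tw0 (xG D K) (RingHom.id K) (MonoidHom.id _) :=
  ⟨chv_xG D K, twist0, charOK_zero K, fun r t => by simp [tw0, TwData.ε, TwData.e]⟩

theorem gen0 : (isTw0 D K).fold.gen = ⊤ :=
  eq_top_of_simple (fun j t => by simpa [kr, tw0] using ((isTw0 D K).dl_mem_gen per0 j (t := t) (by simp [mem_Fx])).1)
    fun j t => by simpa [kr, tw0] using ((isTw0 D K).dl_mem_gen per0 j (t := t) (by simp [mem_Fx])).2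

variable (D K) in
theorem emb0 : (isTw0 D K).fold.Emb (MonoidHom.id _) :=
  (isTw0 D K).emb_of_range ((isTw0 D K).ok per0) Function.injective_id (by rw [gen0, MonoidHom.range_eq_top]; exact Function.surjective_id)

theorem hconn (S : Fin D.rank → Bool) (h : ∀ i j, (rs D).C i j ≠ 0 → S i = S j) (i j : Fin D.rank) : S i = S j := by
  obtain ⟨d, hd⟩ := exists_conn (D := D)
  have h2 : ∀ (m : ℕ) (i : Fin D.rank), d i = m → S i = S ⟨0, i.pos⟩ := fun m => Nat.strong_induction_on m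
    fun m ih i hi => by
      rcases hd i with e | ⟨j, hj, e | e⟩
      · exact congrArg S (Fin.ext e)
      · exact (h i j (by omega)).trans (ih _ (hi ▸ hj) j rfl)
      · exact (h j i (by omega)).symm.trans (ih _ (hi ▸ hj) j rfl)
  rw [h2 _ i rfl, h2 _ j rfl]

theorem w0_eq_neg (l : List (Fin D.rank))
    (hl : (Chev.allLt D.nroots fun r => Nat.beq (wordN D (l.map Fin.val) (D.nroots - 1 - r)) r) = true)
    (r : Fin D.nroots) : (rs D).w0 r = (rs D).neg r := by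
  have h1 : ∀ s, (rs D).wordW l ((rs D).neg s) = s := fun s => Fin.ext (by
    rw [wordW_val, rs_neg_val, neg_eq s.2]; exact Nat.eq_of_beq_eq_true (Chev.allLt_iff.mp hl s s.2))
  have h2 : ∀ s, (rs D).wordW l s = (rs D).neg s := fun s => by simpa using h1 ((rs D).neg s)
  rw [← eq_w0 (wordW_mem_W _ l) fun j => h2 _ ▸ not_isPos_neg_simple j, h2]

theorem conj_w0 (hw0 : ∀ r, (rs D).w0 r = (rs D).neg r) {m k : D.group K} (hm : (PG D K).Over m (rs D).w0)
    (hk : k ∈ (PG D K).H) : m * k⁻¹ * m⁻¹ = k := by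
  obtain ⟨a, rfl⟩ := mem_H_iff.mp hk
  have h4 := mem_center_of_conj (GS_xG D K) (z := (hG D a)⁻¹ * (m * (hG D a)⁻¹ * m⁻¹)) fun s u => by
    have := congrArg (fun g => (hG D a)⁻¹ * g * hG D a) (((stRel_xG D K).over_conj_inv hm
      (by rw [hw0, neg_neg']) (hG_conj_xG a) u).trans (hG_conj_xG a s u).symm)
    simpa [mul_assoc] using this
  rw [center_eq_bot, Subgroup.mem_bot, inv_mul_eq_one] at h4
  exact h4.symm

theorem mem_US_of_commute {S : Set (Fin D.nroots)} (hS : (rs D).HalfSpace S) (hc : (rs D).Closed S) {u : D.group K}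
    (hu : u ∈ (PG D K).US S) {a : Fin D.rank → Kˣ} (h : Commute u (hG D a)) :
    u ∈ (PG D K).US {r | r ∈ S ∧ chi D a r = 1} := by
  obtain ⟨t, rfl⟩ := (full_xG D K).exists_pS hS hc hu
  have h1 : hG D a * (full_xG D K).pS S t * (hG D a)⁻¹ = (full_xG D K).pS S fun r => chi D a r * t r := by
    rw [Full.pS, Full.pS, ← MulAut.conj_apply, map_list_prod, List.map_map]
    exact congrArg List.prod (List.map_congr_left fun r _ => hG_conj_xG a r _)
  rw [← h.eq, mul_inv_cancel_right] at h1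
  refine (full_xG D K).pS_mem_of fun r hr => or_iff_not_imp_right.mpr fun h0 => ⟨hr, Units.ext ?_⟩
  exact mul_right_cancel₀ h0 (((full_xG D K).pS_unique hS h1 r hr).symm.trans (one_mul _).symm)

theorem eq_one_of_mem_X {r : Fin D.nroots} {a : Fin D.rank → Kˣ} (ha : chi D a r ≠ 1) {u : D.group K}
    (hu : u ∈ (PG D K).US {r}) (h : Commute u (hG D a)) : u = 1 := by
  rw [PreRGD.US, USub_singleton] at hu
  obtain ⟨t, rfl⟩ := mem_X_iff.mp hu
  by_contra h1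
  exact ha (chi_eq_one_of_commute (fun e => h1 (by rw [e, xG_zero])) h.symm)

theorem pair_aux {G : Type*} [Group G] {R S X Y : G} (k3 : X * S = S * X) (k4 : Y * R = R * Y)
    (k6 : X⁻¹ * R⁻¹ * X * R * S = S * (X⁻¹ * R⁻¹ * X * R)) (k7 : R * S * (X * Y) = X * Y * (R * S)) :
    Y * S⁻¹ * Y⁻¹ * S = X⁻¹ * R⁻¹ * X * R := by
  have k8 : X⁻¹ * R * X * S = R * (Y * S * Y⁻¹) := by
    calc _ = X⁻¹ * (R * S * (X * Y)) * Y⁻¹ := by rw [mul_assoc _ X, k3]; group
      _ = (Y * R) * S * Y⁻¹ := by rw [k7]; group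
      _ = _ := by rw [k4]; group
  have k9 : (X⁻¹ * R⁻¹ * X * R)⁻¹ * S = S * (Y * S⁻¹ * Y⁻¹ * S)⁻¹ := by
    calc _ = R⁻¹ * (X⁻¹ * R * X * S) := by group
      _ = _ := by rw [k8]; group
  rw [← inv_inj, ← mul_right_inj S, ← k9, inv_mul_eq_iff_eq_mul, ← mul_assoc, k6, mul_inv_cancel_right]

theorem exists_pair {G : Type*} [Group G] {a b : K → G} (ha : ∀ t u, a t * a u = a (t + u))
    (hb : ∀ t u, b t * b u = b (t + u)) (hc : ∀ t u, b u * a t = a t * b u) :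
    ∃ A : Subgroup G, ∀ g, g ∈ A ↔ ∃ t u, g = a t * b u := by
  have a0 : a 0 = 1 := by simpa using ha 0 0
  have b0 : b 0 = 1 := by simpa using hb 0 0
  refine ⟨{ carrier := {g | ∃ t u, g = a t * b u}
            one_mem' := ⟨0, 0, by simp [a0, b0]⟩
            mul_mem' := ?_
            inv_mem' := ?_ }, fun _ => Iff.rfl⟩
  · rintro _ _ ⟨t, t', rfl⟩ ⟨v, v', rfl⟩
    refine ⟨t + v, t' + v', ?_⟩
    rw [mul_assoc, ← mul_assoc (b t'), hc, ← ha, ← hb]
    simp [mul_assoc]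
  · rintro _ ⟨t, t', rfl⟩
    refine ⟨-t, -t', inv_eq_of_mul_eq_one_right ?_⟩
    rw [← hc (-t), mul_assoc, ← mul_assoc (b t'), hb, add_neg_cancel, b0, one_mul, ha, add_neg_cancel, a0]

/-- The product of two opposite root elements has no fixed points on a natural module. -/
theorem eq_one_of_pair {r s b : Fin D.nroots} {S : Set (Fin D.nroots)} (hS : (rs D).HalfSpace S) (hr : r ∈ S)
    (hs : s ∈ S) {ε ε' : ℤ} (h : r ≠ s ∧ b ≠ r ∧ b ≠ s ∧ b ≠ (rs D).neg r ∧ b ≠ (rs D).neg s ∧ ε * ε = 1 ∧ ε' * ε' = 1 ∧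
      D.commTerms r b = [(s.1, ε, 1, 1)] ∧ D.commTerms s ((rs D).neg b) = [(r.1, ε', 1, 1)] ∧
      D.commTerms s b = [] ∧ D.commTerms r ((rs D).neg b) = [] ∧ D.commTerms r s = [])
    {c : K} (hc : c ≠ 0) {u : D.group K} (hu : u ∈ (PG D K).US {r, s})
    (hcomm : Commute u (xG D K b 1 * xG D K ((rs D).neg b : Fin D.nroots) c)) : u = 1 := by
  obtain ⟨n1, n2, n3, n4, n5, e1, e2, c1, c2, c3, c4, c5⟩ := h
  have hx := stRel_xG D K
  have n6 : (rs D).neg b ≠ r := fun e => n4 (by rw [← e, neg_neg'])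
  have n7 : (rs D).neg b ≠ s := fun e => n5 (by rw [← e, neg_neg'])
  have k0 : ∀ {r s : Fin D.nroots}, s ≠ r → s ≠ (rs D).neg r → D.commTerms r s = [] → ∀ t u : K,
      xG D K s u * xG D K r t = xG D K r t * xG D K s u := fun h1 h2 h3 t u => by
    have := hx.comm' h1 h2 t u
    rw [ChevalleyDatum.commWord, h3, List.map_nil, wordVal_nil, mul_assoc, mul_assoc, inv_mul_eq_one,
      eq_inv_mul_iff_mul_eq] at this
    exact this.symm
  obtain ⟨t, t', rfl⟩ : ∃ t t', u = xG D K r t * xG D K s t' := by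
    obtain ⟨A, hA⟩ := exists_pair (xG_add r) (xG_add s) (k0 n1.symm (hS.ne_neg hr hs) c5)
    refine (hA u).mp ((USub_XS_le_iff (x := xG D K) (S := {r, s})).mpr ?_ hu)
    rintro _ (rfl | rfl) t
    exacts [(hA _).mpr ⟨t, 0, by rw [xG_zero, mul_one]⟩, (hA _).mpr ⟨0, t, by rw [xG_zero, one_mul]⟩]
  have k1 := hx.comm' n2 n4 t 1
  have k2 := hx.comm' n7 (fun e => n3 (by rwa [neg_inj'] at e)) t' (-c)
  rw [ChevalleyDatum.commWord, c1] at k1
  rw [ChevalleyDatum.commWord, c2, ← xG_inv, inv_inv] at k2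
  simp only [List.map_cons, List.map_nil, wordVal_cons, wordVal_nil, mul_one, pow_one] at k1 k2
  have k3 := k0 n3 n5 c3 t' 1
  have k4 := k0 n6 (fun e => n2 (by rwa [neg_inj'] at e)) c4 t c
  have k5 : xG D K r (ε' * -t' * -c) * 1 = 1 * xG D K s (ε * -t) := by
    have k6 : xG D K s (ε * -t) * xG D K s t' = xG D K s t' * xG D K s (ε * -t) := by rw [xG_add, xG_add, add_comm]
    rw [← k1] at k6
    rw [← k1, ← k2, mul_one, one_mul]
    exact pair_aux k3 k4 k6 hcomm.eq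
  obtain ⟨k8, k9⟩ := (nondeg D K).US_unique hS (Nondeg.closed_singleton r) (Nondeg.closed_singleton s)
    (Set.singleton_subset_iff.mpr hr) (Set.singleton_subset_iff.mpr hs) (Set.disjoint_singleton.mpr n1)
    (xG_mem_US (Set.mem_singleton r) _) (one_mem _) (one_mem _) (xG_mem_US (Set.mem_singleton s) _) k5
  have e3 : (ε : K) ≠ 0 := fun e => by simpa [e] using congrArg (Int.cast : ℤ → K) e1
  have e4 : (ε' : K) ≠ 0 := fun e => by simpa [e] using congrArg (Int.cast : ℤ → K) e2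
  rw [xG_eq_one_iff r.2] at k8
  rw [eq_comm, xG_eq_one_iff s.2] at k9
  obtain rfl : t = 0 := by simpa [e3] using k9
  obtain rfl : t' = 0 := by simpa [e4, hc] using k8
  simp [xG_zero]

variable {Γ : Type*} [Group Γ] {f : Γ →* D.group K}

theorem fpf_of_pow {J : Set (Fin D.rank)} {x : Γ} (hx : f x ∈ (PG D K).LJ J) {n : ℕ} {a : Fin D.rank → Kˣ}
    (e : f (x ^ n) = hG D a) {S S' : Set (Fin D.nroots)}
    (hS : ∀ r, ¬ (rs D).InSub J r → chi D a r = 1 → ((rs D).IsPos r → r ∈ S) ∧ (¬ (rs D).IsPos r → r ∈ S'))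
    (h1 : ∀ u, f u ∈ (PG D K).US S → Commute u x → u = 1) (h2 : ∀ u, f u ∈ (PG D K).US S' → Commute u x → u = 1) :
    Fpf (PG D K) f J x := by
  refine ⟨hx, fun u hu hc => h1 u (USub_mono (fun r hr => (hS r hr.1.2 hr.2).1 hr.1.1)
    (mem_US_of_commute (halfSpace_of_pos fun _ h => h.1) (closed_pos_not_inSub J) hu (e ▸ (hc.pow_right n).map f))) hc,
    fun u hu hc => h2 u (USub_mono (fun r hr => (hS r hr.1.2 hr.2).2 hr.1.1)
    (mem_US_of_commute (halfSpace_neg.mono fun _ h => h.1) (closed_neg_not_inSub J) hu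
      (e ▸ (hc.pow_right n).map f))) hc⟩

theorem fpf_of_chi (hf : Function.Injective f) {J : Set (Fin D.rank)} {x : Γ} (hx : f x ∈ (PG D K).LJ J) {n : ℕ}
    {a : Fin D.rank → Kˣ} (e : f (x ^ n) = hG D a) (hS : ∀ r, ¬ (rs D).InSub J r → chi D a r ≠ 1) :
    Fpf (PG D K) f J x :=
  have h : ∀ u, f u ∈ (PG D K).US ∅ → Commute u x → u = 1 := fun u hu _ => hf (by simpa [PreRGD.US] using hu)
  fpf_of_pow hx e (fun r h1 h2 => absurd h2 (hS r h1)) h h

theorem not_dvd_orderOf [Finite K] (p : ℕ) [hp : Fact p.Prime] [CharP K p] (hf : Function.Injective f) {x : Γ} {n : ℕ}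
    (hn : ¬ p ∣ n) (e : f (x ^ n) ∈ (PG D K).H) : ¬ p ∣ orderOf x := fun h => by
  have h1 : x ^ (n * (Nat.card K - 1)) = 1 := hf (by rw [pow_mul, map_pow, (stRel_xG D K).pow_card_H e, map_one])
  exact (hp.out.dvd_mul.mp (h.trans (orderOf_dvd_of_pow_eq_one h1))).elim hn
    ((Nat.Prime.coprime_iff_not_dvd hp.out).mp (coprime_card_sub_one K p).symm)

variable [Finite K] {T : TwData} {φ : K →+* K} {σ : D.group K →* D.group K} (h : IsTw D T (xG D K) φ σ)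
  (E : h.fold.Emb f)
include E

theorem hc_tw (k k' : Γ) (hk : f k ∈ (PG D K).H) (hk' : f k' ∈ (PG D K).H) : Commute k k' :=
  E.inj (by simpa using H_comm hk hk')

theorem hz_tw (h2 : ∀ j, ∃ l, j ∈ h.fold.orb l ∧ ∃ x, f x ∈ (PG D K).U ∧ sc l (f x) = 1) (g : Γ)
    (hg : f g ∈ (PG D K).H) (h3 : ∀ y, f y ∈ (PG D K).V → Commute g y) : g = 1 := by
  refine hz_of_U E (fun g hg h3 => ?_) g hg h3
  obtain ⟨a, e⟩ := mem_H_iff.mp hg
  refine E.inj ?_
  rw [← e, map_one, ChevM.hG_eq_one_iff]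
  funext j
  obtain ⟨l, hl, x, hx, h1⟩ := h2 j
  have h4 := sc_conj (i := l) a hx
  rw [e, ((h3 x hx).map f).eq, mul_inv_cancel_right, h1, mul_one] at h4
  exact h.eq_of_orb (h.cm_mem_A.mpr (e ▸ E.fix g)) (one_mem _) (Units.ext h4.symm) hl

theorem hz_per {k : ℕ} (P : Per D T k) (g : Γ) (hg : f g ∈ (PG D K).H)
    (h3 : ∀ y, f y ∈ (PG D K).V → Commute g y) : g = 1 :=
  hz_tw h E (fun j => ⟨j, mem_orb_self j, ((h.nd_of_per P j).exists_sc E (map_one _)).imp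
    fun _ hx => ⟨UL_le_U _ _ hx.1, hx.2⟩⟩) g hg h3

theorem hT_per [Finite Γ] {k : ℕ} (P : Per D T k) (hf : f.range ≤ h.fold.gen) :
    (PG D K).H.comap f ≤ ⨆ i, TT h.fold f i :=
  hT_of_sl2 E hf fun i => T_le_TT E (h.isSL2 E (h.orbOK P _) (h.fix_iff' P _) id rfl)

theorem hidx_tw [Finite Γ] (p : ℕ) [hp : Fact p.Prime] [CharP K p] (hf : f.range ≤ h.fold.gen) :
    ¬ p ∣ ((PG D K).U.comap f).index :=
  (Nat.Prime.coprime_iff_not_dvd hp.out).mp (SBN.coprime_index (E.sbn_full (fun i => ⟨i, mem_orb_self i⟩) hf)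
    (h.isPGroup_U E p id) fun _ => h.eq_one_of_isPElt E p id).symm

omit E

variable (D T) in
/-- The nodes are divided into the orbits of `a` and `b`; the root `r₁` has a high level. -/
structure Rk2 (a b : Fin D.rank) (g : ℕ → ℕ) (r₁ : Fin D.nroots) : Prop where
  inv : ∀ i : Fin D.rank, g (T.ν i) = g i
  ga : g a = 0
  gb : g b ≠ 0
  cov : ∀ i : Fin D.rank, ∃ j < 3, T.ν^[j] (if g i = 0 then a else b) = i
  two : ∀ r : Fin D.nroots, (∀ i : Fin D.rank, g i = 0 → rcN D r i = 0) → rcN D r b ≠ rcN D r₁ b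
  high : ∀ r : Fin D.nroots, (∀ i : Fin D.rank, g i ≠ 0 → rcN D r i = 0) →
    ∑ i : Fin D.rank, (if g i = 0 then rcN D r i else 0) < ∑ i : Fin D.rank, if g i = 0 then rcN D r₁ i else 0

variable {a b : Fin D.rank} {g : ℕ → ℕ} {r₁ : Fin D.nroots} (hR : Rk2 D T a b g r₁)
include hR

theorem Rk2.mem_a {i : Fin D.rank} : i ∈ h.fold.orb a ↔ g i = 0 := ⟨fun hi => (h.orb_inv g hR.inv hi).trans hR.ga,
  fun hi => by obtain ⟨j, -, e⟩ := hR.cov i; exact h.mem_orb_of j (by rwa [if_pos hi] at e)⟩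

theorem Rk2.mem_b {i : Fin D.rank} : i ∈ h.fold.orb b ↔ g i ≠ 0 := ⟨fun hi => (h.orb_inv g hR.inv hi) ▸ hR.gb,
  fun hi => by obtain ⟨j, -, e⟩ := hR.cov i; exact h.mem_orb_of j (by rwa [if_neg hi] at e)⟩

theorem Rk2.inSub {r : Fin D.nroots} :
    (rs D).InSub (h.fold.orb b) r ↔ ∀ i : Fin D.rank, g i = 0 → rcN D r i = 0 :=
  forall_congr' fun i => by rw [hR.mem_b, not_not]; rfl

include E in
theorem Rk2.p2 [Finite Γ] (p : ℕ) [Fact p.Prime] [CharP K p] (hw0 : ∀ r, (rs D).w0 r = (rs D).neg r)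
    (hf : f.range ≤ h.fold.gen) (hz : ∀ g : Γ, f g ∈ (PG D K).H → (∀ y, f y ∈ (PG D K).V → Commute g y) → g = 1)
    (hT : (PG D K).H.comap f ≤ ⨆ i, TT h.fold f i) {K₀ : Type*} [Field K₀] {x y : K₀ → Γ}
    (hb : (E.sbn id).IsSL2 b x y) {ψ : SL(2, K₀) →* Γ} (h1 : ∀ t, ψ (up t) = x t) (h2 : ∀ t, ψ (lo t) = y t)
    {c k : Γ} (hk : f k ∈ (PG D K).H) (good : ∀ A, ∃ s c₁ c₂, Fpf (PG D K) f (h.fold.orb b) c₁ ∧
      Fpf (PG D K) f (h.fold.orb b) c₂ ∧ IsConj c c₁ ∧ IsConj c c₂ ∧ k * ψ (A * up s) = c₁ * c₂)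
    {z : Γ} (hz1 : z ≠ 1) : P2 c z := by
  have hl : ∀ r : Fin D.nroots, lev (rs D) (h.fold.orb b) r = ∑ i : Fin D.rank, if g i = 0 then rcN D r i else 0 :=
    fun r => Finset.sum_congr rfl fun i _ => by
      by_cases hi : g i = 0
      · rw [if_neg (by rwa [hR.mem_b h, not_not]), if_pos hi]; rfl
      · rw [if_pos ((hR.mem_b h).mpr hi), if_neg hi]
  refine p2_of_levi E hb h1 h2 (h.isPGroup_U E p id) hw0 (a := a) (by rw [hR.mem_b h, not_not]; exact hR.ga)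
    (fun i => by rw [hR.mem_a h, hR.mem_b h]; exact em _) (r₁ := r₁) (fun h3 => hR.two _ ((hR.inSub h).mp h3) ?_)
    (fun r hr => ?_) (hidx_tw h E p hf) hf (hc_tw h E) hconn hz hT hk good hz1
  · exact rc_apply_of_mem_WJ (s_mem_WJ a) r₁ (by rw [hR.mem_a h]; exact hR.gb)
  · rw [hl, hl]
    exact hR.high r fun i hi => hr i (by rwa [hR.mem_a h])

include E in
/-- The class of the product of a central element of the Levi subgroup and a non-split element of `SL₂`. -/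
theorem Rk2.exists_class [Finite Γ] (p : ℕ) [hp : Fact p.Prime] [CharP K p] (hw0 : ∀ r, (rs D).w0 r = (rs D).neg r)
    (hf : f.range ≤ h.fold.gen) (hz : ∀ g : Γ, f g ∈ (PG D K).H → (∀ y, f y ∈ (PG D K).V → Commute g y) → g = 1)
    (hT : (PG D K).H.comap f ≤ ⨆ i, TT h.fold f i) {k : ℕ} (hk : h.fold.OrbOK ((rs D).simple b) k)
    {K₀ : Type*} [Field K₀] [Finite K₀] {ι : K₀ →+* K} (hι : ∀ t, σ^[k] (xG D K ((rs D).simple b : Fin D.nroots) t) =
      xG D K ((rs D).simple b : Fin D.nroots) t ↔ ∃ s, ι s = t) {c : Fin D.rank → Kˣ} (hc : hG D c ∈ f.range)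
    (hc1 : chi D c ((rs D).simple b) = 1) {S S' : Set (Fin D.nroots)}
    (hS : ∀ r, ¬ (rs D).InSub (h.fold.orb b) r → chi D c r ^ (Nat.card K₀ + 1) = 1 →
      ((rs D).IsPos r → r ∈ S) ∧ (¬ (rs D).IsPos r → r ∈ S'))
    (h1 : ∀ u d, d ≠ 0 → u ∈ (PG D K).US S ∨ u ∈ (PG D K).US S' → Commute u (hG D c *
      (dl σ k (xG D K ((rs D).simple b : Fin D.nroots) 1) *
        dl σ k (xG D K ((rs D).neg ((rs D).simple b) : Fin D.nroots) d))) → u = 1) :
    ∃ x : Γ, ¬ p ∣ orderOf x ∧ ∀ g, g ≠ 1 → P2 x g := by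
  obtain ⟨z, e⟩ := hc
  have hb := h.isSL2 E hk hι id rfl
  obtain ⟨ψ, e1, e2⟩ := exists_sl2 hb.toSL2D
  obtain ⟨τ, hτ⟩ := exists_noRoot (F := K₀)
  have h2 : (up 1 * lo (τ - 2)).1.trace = τ := by simp [Matrix.trace_fin_two]; ring
  have h3 : ∀ A, Commute z (ψ A) := SL_induction (fun A => Commute z (ψ A))
    (fun t => by
      have := (h.conj_Y E hk (e ▸ hG_conj_xG c) ((hι _).mpr ⟨t, rfl⟩)).2
      rwa [hc1, Units.val_one, one_mul, mul_inv_eq_iff_eq_mul, ← Function.comp_apply (f := h.Y E _ k), ← e1] at this)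
    (fun t => by
      have := (h.conj_Y E hk.neg (e ▸ hG_conj_xG c) ((h.iter_neg_iff hk.per _).mpr ((hι _).mpr ⟨t, rfl⟩))).2
      rwa [chi_neg, hc1, inv_one, Units.val_one, one_mul, mul_inv_eq_iff_eq_mul,
        ← Function.comp_apply (f := h.Y E _ k), ← e2] at this)
    fun _ _ ha hb => by simpa using ha.mul_right hb
  have h4 : f ((z * ψ (up 1 * lo (τ - 2))) ^ (Nat.card K₀ + 1)) = hG D (c ^ (Nat.card K₀ + 1)) := by
    rw [(h3 _).mul_pow, ← map_pow, SL_pow_of_noRoot (h2.symm ▸ hτ), map_one, mul_one, map_pow, e, map_pow]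
  have h5 : f (z * ψ (up 1 * lo (τ - 2))) = hG D c * (dl σ k (xG D K ((rs D).simple b : Fin D.nroots) 1) *
      dl σ k (xG D K ((rs D).neg ((rs D).simple b) : Fin D.nroots) (ι (τ - 2)))) := by
    rw [map_mul, map_mul, map_mul, e, e1, e2, Function.comp_apply, Function.comp_apply,
      h.map_Y E hk ((hι _).mpr ⟨_, rfl⟩), h.map_Y E hk.neg ((h.iter_neg_iff hk.per _).mpr ((hι _).mpr ⟨_, rfl⟩)),
      map_one]
  have h6 : ι (τ - 2) ≠ 0 := by
    rw [map_ne_zero, sub_ne_zero]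
    rintro rfl
    exact hτ 1 (by ring)
  have hL := map_mem_LJ E hb e1 e2
  have hzH : f z ∈ (PG D K).H := e ▸ hG_mem_H c
  refine ⟨_, not_dvd_orderOf p E.inj (fun h7 => ?_) (h4 ▸ hG_mem_H _), fun g hg =>
    hR.p2 h E p hw0 hf hz hT hb e1 e2 (k := z * z) (by simpa using mul_mem hzH hzH) (good_of_central h3 hL
      (SL_trace_sq_ne_of_noRoot (h2.symm ▸ hτ)) (fpf_of_pow (map_mul f z _ ▸ mul_mem (H_le_LJ _ _ hzH) (hL _)) h4
        (fun r hr h7 => hS r hr (by rwa [← chi_pow])) (fun u hu hc => E.inj ?_) fun u hu hc => E.inj ?_)) hg⟩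
  · have := ι.charP ι.injective p
    obtain ⟨n, hn, e⟩ := exists_card_eq (F := K₀) p
    exact hp.out.not_dvd_one ((Nat.dvd_add_right (e ▸ dvd_pow_self p hn.ne')).mp h7)
  · rw [h1 _ _ h6 (Or.inl hu) (h5 ▸ hc.map f), map_one]
  · rw [h1 _ _ h6 (Or.inr hu) (h5 ▸ hc.map f), map_one]

end Cfsg.Agent.Gauss
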