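/-
Thompson's class-square conjecture for the exceptional Chevalley groups over fields with at least nine elements.
-/
import Cfsg.Agent.Lib.Gauss.Tw
import Cfsg.Agent.Lib.Gauss.Block

set_option autoImplicit false

namespace Cfsg.Agent.Gauss

open Cfsg.Lie Cfsg.Agent.Chev Cfsg.Agent.Chev.RSys Cfsg.Agent.Chev.PreRGD Cfsg.Agent.Chev.Fold Cfsg.Agent.ChevM
  Cfsg.Agent.SLn

variable {D : ChevalleyDatum} {K : Type*} [Field K]

theorem exists_big [Finite K] (h : 9 ≤ Nat.card K) : ∃ t : Kˣ, ∀ k : ℤ, k ≠ 0 → |k| ≤ 7 → t ^ k ≠ 1 := by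
  obtain ⟨t, ht⟩ := IsCyclic.exists_ofOrder_eq_natCard (α := Kˣ)
  refine ⟨t, fun k h0 h1 e => ?_⟩
  have := Int.le_of_dvd (abs_pos.mpr h0) ((dvd_abs _ _).mpr (orderOf_dvd_iff_zpow_eq_one.mpr e))
  rw [ht, Nat.card_units] at this
  omega

theorem four_le [Finite K] (h : 9 ≤ Nat.card K) : 4 ≤ Cardinal.mk K := by
  rw [← Nat.cast_card]
  exact_mod_cast (by omega : 4 ≤ Nat.card K)

variable (D) in
/-- Tables for a Levi subgroup of linear type. -/
structure Blk (n : ℕ) (ρ : ℕ → ℕ → ℕ) (ε : ℕ → ℕ → ℤ) (g : ℕ → Bool) (l : List ℤ) (wl : List (Fin D.rank)) :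
    Prop where
  lt : ∀ i j : Fin (n + 1), ρ i j < D.nroots
  sq : ∀ i j : Fin (n + 1), ε i j * ε i j = 1
  comm : ∀ i j k l : Fin (n + 1), i ≠ j → k ≠ l → i ≠ l → j ≠ k →
    ρ k l = ρ i j ∨ (ρ k l ≠ D.neg (ρ i j) ∧ D.commTerms (ρ i j) (ρ k l) = [])
  step : ∀ i j l : Fin (n + 1), i ≠ j → j ≠ l → i ≠ l → ρ i j ≠ ρ j l ∧ ρ i j ≠ D.neg (ρ j l) ∧
    D.commTerms (ρ j l) (ρ i j) = [(ρ i l, -(ε i j * ε j l * ε i l), 1, 1)]
  sub : ∀ i j : Fin (n + 1), i ≠ j → ∀ k : Fin D.rank, g k = false → rcN D (ρ i j) k = 0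
  cov : ∀ r : Fin D.nroots, (∀ k : Fin D.rank, g k = false → rcN D r k = 0) →
    ∃ i j : Fin (n + 1), ρ i j = r ∧ (D.nroots ≤ 2 * r → i < j) ∧ (¬ D.nroots ≤ 2 * r → j < i)
  fpf : ∀ r : Fin D.nroots, (∀ k : Fin D.rank, g k = false → rcN D r k = 0) ∨ (prL D l r ≠ 0 ∧ |prL D l r| ≤ 7)
  act : ∀ i j : Fin (n + 1), i ≠ j → prL D l (ρ i j) = (if i = 0 then 1 else 0) - if j = 0 then 1 else 0
  w1 : ∀ i : Fin D.rank, prL D l (wordN D (wl.map Fin.val) (D.simple i)) = -prL D l (D.simple i)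
  w2 : ∀ i j : Fin n, i ≠ j → wordN D (wl.map Fin.val) (ρ (i + 1) (j + 1)) = ρ (j + 1) (i + 1)

variable [Tab D]

theorem conj_cot {l : List ℤ} (wl : List (Fin D.rank))
    (h0 : ∀ i : Fin D.rank, prL D l (wordN D (wl.map Fin.val) (D.simple i)) = -prL D l (D.simple i)) (t : Kˣ) :
    (PG D K).nW ((rs D).wordW wl) * hG D (cot D l t) * ((PG D K).nW ((rs D).wordW wl))⁻¹ = (hG D (cot D l t))⁻¹ := by
  have h : ∀ i, prL D l ((rs D).wordW wl ((rs D).simple i)) = -prL D l ((rs D).simple i : Fin D.nroots) := fun i => by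
    rw [wordW_val]; exact h0 i
  have hw := wordW_mem_W (rs D) wl
  generalize (rs D).wordW wl = w at h hw
  have h1 := eq_one_of_mem_H_of_commute (g := ((PG D K).nW w)⁻¹ * hG D (cot D l t) * (PG D K).nW w * hG D (cot D l t))
    (mul_mem (by simpa using (over_nW hw).inv.conj_H (hG_mem_H (cot D l t))) (hG_mem_H _)) fun i => by
      obtain ⟨c, -, h2, -⟩ := nW_conj_xG (F := K) hw ((rs D).simple i)
      refine ⟨1, one_ne_zero, mul_inv_eq_iff_eq_mul.mp ?_⟩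
      have h3 := hG_conj_xG (cot D l t) (w ((rs D).simple i)) (c * (chi D (cot D l t) ((rs D).simple i) * 1))
      rw [← h2, ← hG_conj_xG, chi_cot, chi_cot, h, mul_left_comm, ← mul_assoc (_ : K) _ 1, ← Units.val_mul, ← zpow_add,
        neg_add_cancel, zpow_zero, Units.val_one, one_mul, ← h2] at h3
      simpa [mul_assoc] using congrArg (fun g => ((PG D K).nW w)⁻¹ * g * (PG D K).nW w) h3
  rw [← inv_inj, inv_inv]
  simpa [mul_assoc] using congrArg (fun g => (PG D K).nW w * g * (hG D (cot D l t))⁻¹ * ((PG D K).nW w)⁻¹) h1.symm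

theorem class_of_center {x : D.group K} (h1 : IsConj x x⁻¹) (h2 : ∀ g ∉ Subgroup.center _, P2 x g) (g : D.group K) :
    P2 x g := by
  by_cases h : g = 1
  · exact h ▸ .one h1
  · exact h2 g (by rwa [center_eq_bot, Subgroup.mem_bot])

theorem Blk.p2 [Finite K] (hK : 9 ≤ Nat.card K) {n : ℕ} (hn : 2 ≤ n) {ρ : ℕ → ℕ → ℕ} {ε : ℕ → ℕ → ℤ}
    {g : ℕ → Bool} {l : List ℤ} {wl : List (Fin D.rank)} (h : Blk D n ρ ε g l wl) :
    ∃ x : D.group K, ∀ g, P2 x g := by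
  obtain ⟨t, ht⟩ := exists_big hK
  have hx := stRel_xG D K
  let r : Fin (n + 1) → Fin (n + 1) → Fin D.nroots := fun i j => ⟨ρ i j, h.lt i j⟩
  have hε : ∀ i j : Fin (n + 1), (ε i j : K) * ε i j = 1 := fun i j => by exact_mod_cast congrArg (Int.cast : ℤ → K) (h.sq i j)
  obtain ⟨ψ, hψ⟩ := StR.exists_hom (ι := Fin (n + 1)) (K := K) (by simpa using hn)
    (x := fun i j t => xG D K (r i j) (ε i j * t)) ⟨fun _ t u => by rw [xG_add, mul_add], fun {i j k l} a b c d t u => by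
      by_cases e : r k l = r i j
      · rw [e, Commute, SemiconjBy, xG_add, xG_add, add_comm]
      obtain ⟨e1, e2⟩ := (h.comm i j k l a b c d).resolve_left fun e' => e (Fin.ext e')
      have := hx.comm' e (fun e' => e1 (congrArg Fin.val e')) (ε i j * t) (ε k l * u)
      rw [ChevalleyDatum.commWord, e2, List.map_nil, wordVal_nil, mul_assoc, mul_assoc, inv_mul_eq_one,
        eq_inv_mul_iff_mul_eq] at this
      exact this, fun {i j l} a b c t u => by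
      obtain ⟨e1, e2, e3⟩ := h.step i j l a b c
      have := hx.comm' (r := r j l) (s := r i j) (fun e' => e1 (congrArg Fin.val e'))
        (fun e' => e2 (congrArg Fin.val e')) (-(ε j l * u)) (-(ε i j * t))
      rw [ChevalleyDatum.commWord, e3, ← xG_inv, ← xG_inv, inv_inv, inv_inv] at this
      simp only [List.map_cons, List.map_nil, wordVal_cons, wordVal_nil, mul_one, pow_one] at this
      refine this.trans (congrArg _ ?_)
      push_cast
      linear_combination (ε i l * t * u * ε j l * ε j l : K) * hε i j + (ε i l * t * u : K) * hε j l⟩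
  have E := emb0 D K
  have hf : (MonoidHom.id _).range ≤ (isTw0 D K).fold.gen := le_top.trans gen0.ge
  have hJ : ∀ s : Fin D.nroots, (rs D).InSub {k | g k = true} s ↔ ∀ k : Fin D.rank, g k = false → rcN D s k = 0 :=
    fun s => forall_congr' fun k => by rw [Set.mem_ofPred_eq, Bool.not_eq_true]; rfl
  obtain ⟨x, h1, h2⟩ := exists_class E hf (hc_tw _ E) hconn (hT_per _ E per0 hf) (J := {k | g k = true})
    (fun _ => Iff.rfl) (four_le hK) (by omega) ψ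
    (fun i j e t => by rw [hψ i j e]; exact (PG D K).X_le_GJ ((hJ _).mpr (h.sub i j e)) (xG_mem_X _ _))
    (fun s hs x hx => by
      obtain ⟨i, j, e, a, b⟩ := h.cov s ((hJ s).mp hs)
      obtain ⟨u, rfl⟩ := mem_X_iff.mp hx
      rw [← rs_isPos_iff_le] at a b
      refine ⟨i, j, ε i j * u, a, b, ?_⟩
      rw [hψ i j ((em _).elim (fun e => (a e).ne) fun e => (b e).ne'), ← mul_assoc, hε, one_mul, ← e]
      rfl)
    (s := hG D (cot D l t)) (fpf_of_chi E.inj ((PG D K).H_le_LJ _ (hG_mem_H _)) (n := 1) (pow_one _) fun s hs => by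
      obtain ⟨a, b⟩ := (h.fpf s).resolve_left fun e => hs ((hJ s).mpr e)
      exact chi_cot l t s ▸ ht _ a b) (hG_mem_H _) (by
      rw [← Nat.sub_add_cancel (show 1 ≤ Nat.card K by omega), pow_succ, hx.pow_card_H (hG_mem_H _), one_mul])
    t.ne_zero (fun e => ht 2 (by decide) (by decide) (Units.ext (by rwa [zpow_ofNat, Units.val_pow_eq_pow_val]))) (fun i j e u => by
      rw [hψ i j e, hψ i j e, hG_conj_xG, chi_cot, show prL D l (r i j) = _ from h.act i j e]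
      congr 1
      revert e
      refine Fin.cases ?_ (fun i => ?_) i <;> refine Fin.cases ?_ (fun j => ?_) j <;> simp <;> intros <;> ring)
    (conj_cot wl h.w1 t) fun i j e => by
      obtain ⟨c, hc, h2, -⟩ := nW_conj_xG (F := K) (wordW_mem_W _ wl) (r i.succ j.succ)
      have e' := (Fin.succ_injective _).ne e
      refine ⟨ε j.succ i.succ * (c * (ε i.succ j.succ * 1)), ?_, ?_⟩
      · refine mul_ne_zero (left_ne_zero_of_mul_eq_one (hε _ _)) (mul_ne_zero ?_ ?_)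
        · rcases hc with rfl | rfl <;> simp
        · simpa using left_ne_zero_of_mul_eq_one (hε i.succ j.succ)
      · rw [hψ _ _ e', hψ _ _ e'.symm, h2, ← mul_assoc (_ : K) (_ : K) (c * _), hε, one_mul, wordW_val]
        exact congrFun (congrArg _ (h.w2 i j e)) _
  exact ⟨x, class_of_center h1 h2⟩

theorem class_G2 [Finite K] (hK : 9 ≤ Nat.card K) : ∃ x : chevG2.group K, ∀ g, P2 x g := by
  obtain ⟨t, ht⟩ := exists_big hK
  have E := emb0 chevG2 K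
  have hf : (MonoidHom.id _).range ≤ (isTw0 chevG2 K).fold.gen := le_top.trans gen0.ge
  refine ⟨hG chevG2 (cot chevG2 [3, 5] t), fun g => ?_⟩
  by_cases h : g = 1
  · exact h ▸ .one (isConj_iff.mpr ⟨_, conj_cot ([0, 1, 0, 1, 0, 1] : List (Fin 2)) (by decide +kernel) t⟩)
  · refine p2_of_regular E (hc_tw _ E) hconn (hz_per _ E per0) (hT_per _ E per0 hf)
      (fpf_of_chi E.inj ((PG chevG2 K).H_le_LJ _ (hG_mem_H _)) (n := 1) (pow_one _) fun s _ => ?_) h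
    have : ∀ s : Fin chevG2.nroots, prL chevG2 [3, 5] s ≠ 0 ∧ |prL chevG2 [3, 5] s| ≤ 7 := by decide +kernel
    exact chi_cot [3, 5] t s ▸ ht _ (this s).1 (this s).2

/-- Table lookup. -/
def tab2 {α : Type} (d : α) (T : List (List α)) (i j : ℕ) : α := (T.getD i []).getD j d

/-- The roots for `F4`. -/
def rhoF4 : ℕ → ℕ → ℕ := tab2 0 [[0, 33, 34], [14, 0, 27], [13, 20, 0]]

/-- The signs for `F4`. -/
def epsF4 : ℕ → ℕ → ℤ := tab2 1 [[1, 1, -1], [1, 1, 1], [-1, 1, 1]]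

/-- The longest word for `F4`. -/
def wrdF4 : List (Fin 4) := [0, 1, 0, 2, 1, 0, 2, 1, 2, 3, 2, 1, 0, 2, 1, 2, 3, 2, 1, 0, 2, 1, 2, 3]

theorem blk_F4 : Blk chevF4 2 rhoF4 epsF4 ([0, 1].contains ·) [5, 9, 13, 7] wrdF4 :=
  ⟨by decide +kernel, by decide +kernel, by decide +kernel, by decide +kernel, by decide +kernel,
    by decide +kernel, by decide +kernel, by decide +kernel, by decide +kernel, by decide +kernel⟩

/-- The roots for `E6`. -/
def rhoE6 : ℕ → ℕ → ℕ := tab2 0 [[0, 42, 43, 50], [29, 0, 39, 47], [28, 32, 0, 46], [21, 24, 25, 0]]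

/-- The signs for `E6`. -/
def epsE6 : ℕ → ℕ → ℤ := tab2 1 [[1, 1, -1, 1], [1, 1, 1, 1], [-1, 1, 1, 1], [1, 1, 1, 1]]

/-- The longest word for `E6`. -/
def wrdE6 : List (Fin 6) := [0, 1, 2, 0, 3, 1, 2, 0, 3, 2, 4, 3, 1, 2, 0, 3, 2, 4, 3, 1, 5, 4, 3, 1, 2, 0, 3, 2,
  4, 3, 1, 5, 4, 3, 2, 0]

theorem blk_E6 : Blk chevE6 3 rhoE6 epsE6 ([1, 2, 3].contains ·) [5, 6, 9, 12, 9, 5] wrdE6 :=
  ⟨by decide +kernel, by decide +kernel, by decide +kernel, by decide +kernel, by decide +kernel,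
    by decide +kernel, by decide +kernel, by decide +kernel, by decide +kernel, by decide +kernel⟩

/-- The roots for `E7`. -/
def rhoE7 : ℕ → ℕ → ℕ := tab2 0 [[0, 93, 94, 95, 96], [32, 0, 73, 74, 75], [31, 52, 0, 69, 70], [30, 51, 56, 0,
  66], [29, 50, 55, 59, 0]]

/-- The signs for `E7`. -/
def epsE7 : ℕ → ℕ → ℤ := tab2 1 [[1, 1, -1, 1, -1], [1, 1, 1, -1, 1], [-1, 1, 1, 1, -1], [1, -1, 1, 1, 1], [-1,
  1, -1, 1, 1]]

/-- The longest word for `E7`. -/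
def wrdE7 : List (Fin 7) := [0, 1, 2, 0, 3, 1, 2, 0, 3, 2, 4, 3, 1, 2, 0, 3, 2, 4, 3, 1, 5, 4, 3, 1, 2, 0, 3, 2,
  4, 3, 1, 5, 4, 3, 2, 0, 6, 5, 4, 3, 1, 2, 0, 3, 2, 4, 3, 1, 5, 4, 3, 2, 0, 6, 5, 4, 3, 1, 2, 3, 4, 5, 6]

set_option maxHeartbeats 4000000 in
theorem blk_E7 : Blk chevE7 4 rhoE7 epsE7 ([0, 2, 3, 4].contains ·) [7, 10, 13, 19, 15, 11, 6] wrdE7 :=
  ⟨by decide +kernel, by decide +kernel, by decide +kernel, by decide +kernel, by decide +kernel,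
    by decide +kernel, by decide +kernel, by decide +kernel, by decide +kernel, by decide +kernel⟩

/-- The roots for `E8`. -/
def rhoE8 : ℕ → ℕ → ℕ := tab2 0 [[0, 162, 163, 164, 165, 166, 167], [77, 0, 135, 136, 137, 138, 139], [76, 104,
  0, 130, 131, 132, 133], [75, 103, 109, 0, 126, 127, 128], [74, 102, 108, 113, 0, 123, 124], [73, 101, 107, 112,
  116, 0, 121], [72, 100, 106, 111, 115, 118, 0]]

/-- The signs for `E8`. -/
def epsE8 : ℕ → ℕ → ℤ := tab2 1 [[1, 1, -1, 1, -1, 1, -1], [1, 1, 1, -1, 1, -1, 1], [-1, 1, 1, 1, -1, 1, -1],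
  [1, -1, 1, 1, 1, -1, 1], [-1, 1, -1, 1, 1, 1, -1], [1, -1, 1, -1, 1, 1, 1], [-1, 1, -1, 1, -1, 1, 1]]

/-- The longest word for `E8`. -/
def wrdE8 : List (Fin 8) := [0, 1, 2, 0, 3, 1, 2, 0, 3, 2, 4, 3, 1, 2, 0, 3, 2, 4, 3, 1, 5, 4, 3, 1, 2, 0, 3, 2,
  4, 3, 1, 5, 4, 3, 2, 0, 6, 5, 4, 3, 1, 2, 0, 3, 2, 4, 3, 1, 5, 4, 3, 2, 0, 6, 5, 4, 3, 1, 2, 3, 4, 5, 6, 7, 6,
  5, 4, 3, 1, 2, 0, 3, 2, 4, 3, 1, 5, 4, 3, 2, 0, 6, 5, 4, 3, 1, 2, 3, 4, 5, 6, 7, 6, 5, 4, 3, 1, 2, 0, 3, 2, 4,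
  3, 1, 5, 4, 3, 2, 0, 6, 5, 4, 3, 1, 2, 3, 4, 5, 6, 7]

set_option maxHeartbeats 4000000 in
theorem blk_E8 : Blk chevE8 6 rhoE8 epsE8 ([0, 2, 3, 4, 5, 6].contains ·) [11, 16, 21, 31, 25, 19, 13, 7] wrdE8 :=
  ⟨by decide +kernel, by decide +kernel, by decide +kernel, by decide +kernel, by decide +kernel,
    by decide +kernel, by decide +kernel, by decide +kernel, by decide +kernel, by decide +kernel⟩

end Cfsg.Agent.Gauss
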