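/-
Thompson's class-square conjecture for the split classical groups over fields with at least nine elements.
-/
import Cfsg.Agent.Lib.Gauss.ClsP
import Cfsg.Agent.Lib.Gauss.Exc
import Cfsg.Agent.Lib.Cls.Levi

set_option autoImplicit false
set_option backward.isDefEq.respectTransparency false

namespace Cfsg.Agent.Gauss.BCD

open Cfsg.Agent.Chev Cfsg.Agent.Chev.RSys Cfsg.Agent.Cls Cfsg.Agent.Forms Cfsg.Agent.Forms.Form Cfsg.Agent.SLn Matrix

variable {F : Type*} [Field F] {P : Param F} {V : Type*} [AddCommGroup V] [Module F V] {f : Form P V} {m κ : ℕ}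
  {fr : Frame f (PM m)}

theorem mem_of_even (hm : 2 ≤ m) {A : AddSubgroup (Fin m → ℤ)} (h : ∀ i j : PM m, j ≠ i → j ≠ -i → ev i + ev j ∈ A)
    {v : Fin m → ℤ} (hv : Even (∑ k, v k)) : v ∈ A := by
  obtain ⟨c, hc⟩ := hv
  let z : Fin m := ⟨0, by omega⟩
  let o : Fin m := ⟨1, by omega⟩
  have h1 : ∀ k, (Pi.single k 1 - Pi.single z 1 : Fin m → ℤ) ∈ A := fun k => by
    by_cases e : z = k
    · simp [e]
    · simpa [ev, sg, Pi.single_neg, sub_eq_add_neg] using h ⟨k, true⟩ ⟨z, false⟩ (by simp) (by simpa)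
  have h2 := h ⟨z, true⟩ ⟨o, true⟩ (by simp [z, o]) (by simp)
  have h3 := add_mem (sum_mem fun k (_ : k ∈ Finset.univ) => A.zsmul_mem (h1 k) (v k)) (A.zsmul_mem (sub_mem h2 (h1 o)) c)
  convert h3 using 1
  have h4 : ∑ k, v k • (Pi.single k 1 : Fin m → ℤ) = v := by ext k; simp [Pi.single_apply]
  simp only [smul_sub, Finset.sum_sub_distrib, ← Finset.sum_smul, hc, ev, sg, if_true, h4]
  module

variable (fr) in
/-- Diagonal elements that are trivial on the anisotropic part. -/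
def Dg (g : f.Isom) (d : PM m → Fˣ) : Prop := (∀ i, g.1 (fr.e i) = (d i : F) • fr.e i) ∧ ∀ v ∈ fr.V0, g.1 v = v

theorem Dg.eq {g g' : f.Isom} {d : PM m → Fˣ} (h : Dg fr g d) (h' : Dg fr g' d) : g = g' :=
  fr.ext (fun i => (h.1 i).trans (h'.1 i).symm) fun v hv => (h.2 v hv).trans (h'.2 v hv).symm

theorem Dg.congr {g : f.Isom} {d d' : PM m → Fˣ} (h : Dg fr g d) (e : ∀ k, d k = d' k) : Dg fr g d' := funext e ▸ h

theorem Dg.one : Dg fr 1 1 := ⟨by simp, by simp⟩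

theorem Dg.mul {g g' : f.Isom} {d d' : PM m → Fˣ} (h : Dg fr g d) (h' : Dg fr g' d') : Dg fr (g * g') (d * d') :=
  ⟨fun i => by simp only [Isom.mul_apply, h.1, h'.1, map_smul, smul_smul, Pi.mul_apply, Units.val_mul, mul_comm],
    fun v hv => by rw [Isom.mul_apply, h'.2 v hv, h.2 v hv]⟩

theorem Dg.inv {g : f.Isom} {d : PM m → Fˣ} (h : Dg fr g d) : Dg fr g⁻¹ d⁻¹ :=
  ⟨fun i => g.1.injective (by simp [h.1, smul_smul]), fun v hv => inv_apply_of_apply (h.2 v hv)⟩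

theorem Dg.pow {g : f.Isom} {d : PM m → Fˣ} (h : Dg fr g d) (n : ℕ) : Dg fr (g ^ n) (d ^ n) := by
  induction n with
  | zero => simpa using Dg.one
  | succ n ih => rw [pow_succ, pow_succ]; exact ih.mul h

namespace Typ

variable (T : Typ κ fr) (hm : 2 ≤ m)
include T hm

theorem exists_torus (t : Fˣ) {v : Fin m → ℤ} (hv : Even (∑ k, v k)) :
    ∃ g ∈ fr.EG, Dg fr g fun k => t ^ (v ⬝ᵥ ev k) := by
  let A : AddSubgroup (Fin m → ℤ) :=
    { carrier := {v | ∃ g ∈ fr.EG, Dg fr g fun k => t ^ (v ⬝ᵥ ev k)}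
      zero_mem' := ⟨1, one_mem _, Dg.one.congr (by simp)⟩
      add_mem' := fun ⟨a, ha, h⟩ ⟨b, hb, h'⟩ => ⟨a * b, mul_mem ha hb, (h.mul h').congr (by simp [_root_.zpow_add])⟩
      neg_mem' := fun ⟨a, ha, h⟩ => ⟨a⁻¹, inv_mem ha, h.inv.congr (by simp)⟩ }
  refine mem_of_even hm (A := A) (fun i j h1 h2 => ?_) hv
  obtain ⟨x, hx, a⟩ := T.exists_FA h1 h2 t.ne_zero
  obtain ⟨y, hy, b⟩ := T.exists_FA h1 h2 (a := -1) (by simp)
  have := fr.B_ne' i
  have := fr.B_ne' j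
  have := PM.neg_ne i
  have := PM.neg_ne j
  have := ne_neg_swap h2
  have := neg_ne_of h2
  have := h2.symm
  have := neg_ne_neg_of h1
  refine ⟨x * y, mul_mem (W_mem_EG hx) (W_mem_EG hy), fun k => ?_, fun v hv => by rw [Isom.mul_apply, b.a6 v hv, a.a6 v hv]⟩
  simp only [add_dotProduct, ev_dot, Isom.mul_apply]
  by_cases a1 : k = i
  · rw [a1, b.a3, map_smul, a.a2, smul_smul]
    rcases P.ε_eq with e | e <;> simp [dl, e, h1.symm, *] <;> field_simp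
  by_cases a2 : k = -i
  · rw [a2, b.a1, map_smul, a.a4, smul_smul]
    simp [dl, h1.symm, *]; field_simp
  by_cases a3 : k = j
  · rw [a3, b.a4, map_smul, a.a1, smul_smul]
    simp [dl, h1.symm, *]
  by_cases a4 : k = -j
  · rw [a4, b.a2, map_smul, a.a3, smul_smul]
    rcases P.ε_eq with e | e <;> simp [dl, e, h1.symm, *] <;> field_simp
  rw [b.a5 k a1 a2 a3 a4, a.a5 k a1 a2 a3 a4]
  simp [dl, *]

omit T hm in
theorem flip_flip (a b : ℤ) (k : PM m) :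
    (if Even a then (if Even b then k else -k) else -if Even b then k else -k) = if Even (a + b) then k else -k := by
  by_cases h1 : Even a <;> by_cases h2 : Even b <;> simp [h1, h2, Int.even_add]

theorem exists_flip {v : Fin m → ℤ} (hv : κ = 0 → Even (∑ k, v k)) :
    ∃ g ∈ fr.EG, ∀ k, fr.Mv g k (if Even (v k.idx) then k else -k) := by
  have hi : ∀ (a : ℤ) (k : PM m), (if Even a then k else -k).idx = k.idx := fun a k => by split_ifs <;> rfl
  let A : AddSubgroup (Fin m → ℤ) :=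
    { carrier := {v | ∃ g ∈ fr.EG, ∀ k, fr.Mv g k (if Even (v k.idx) then k else -k)}
      zero_mem' := ⟨1, one_mem _, by simpa using fun _ => Frame.Mv.one⟩
      add_mem' := fun ⟨a, ha, h⟩ ⟨b, hb, h'⟩ => ⟨a * b, mul_mem ha hb, fun k => by
        have := (h _).mul (h' k)
        rwa [hi, flip_flip] at this⟩
      neg_mem' := fun {v} ⟨a, ha, h⟩ => ⟨a⁻¹, inv_mem ha, fun k => by
        have := (h (if Even (v k.idx) then k else -k)).inv
        rw [hi, flip_flip, if_pos (Even.add_self _)] at this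
        simpa using this⟩ }
  have h1 : ∀ v : Fin m → ℤ, Even (∑ k, v k) → v ∈ A := fun v => mem_of_even hm fun i j h1 h2 => by
    obtain ⟨x, hx⟩ := T.exists_W (i := i) (j := -j) ⟨neg_ne_neg_of h1, .inl (neg_ne_of h2)⟩
    obtain ⟨y, hy⟩ := T.exists_W ⟨h2, .inl h1⟩
    refine ⟨x * y, mul_mem (W_mem_EG hx) (W_mem_EG hy), fun k => ?_⟩
    convert (W_mv (neg_ne_neg_of h1) hx _).mul (W_mv h2 hy k) using 1
    obtain ⟨a, s⟩ := i
    obtain ⟨b, t⟩ := j
    obtain ⟨c, u⟩ := k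
    have : b ≠ a := by rintro rfl; cases s <;> cases t <;> simp at h1 h2
    by_cases e : c = a <;> by_cases e' : c = b <;> cases s <;> cases t <;> cases u <;>
      simp_all [sw, ev, sg, Pi.single_apply, eq_comm (a := a)]
  by_cases h2 : Even (∑ k, v k)
  · exact h1 v h2
  let i : PM m := ⟨⟨0, by omega⟩, true⟩
  obtain ⟨x, hx⟩ := T.exists_W (i := i) (j := i) ⟨(PM.neg_ne i).symm, .inr fun e => h2 (hv e)⟩
  have h3 : ev i ∈ A := ⟨x, W_mem_EG hx, fun k => by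
    convert W_mv (PM.neg_ne i).symm hx k using 1
    obtain ⟨c, u⟩ := k
    by_cases e : c = i.idx <;> cases u <;> simp_all [sw, ev, sg, Pi.single_apply, i]⟩
  have := add_mem (h1 (v - ev i) (by simpa [ev, sg, i, Int.even_sub_one] using h2)) h3
  rwa [sub_add_cancel] at this

theorem exists_levi [Finite F] : ∃ l : SpecialLinearGroup (Fin m) F →* fr.EG, ∀ a b, a ≠ b → ∀ t,
    IsE (l (xSL a b t)).1 (fr.e ⟨a, true⟩)
      ((-(P.ε * t * (f.B (fr.e ⟨b, true⟩) (fr.e ⟨b, false⟩))⁻¹)) • fr.e ⟨b, false⟩) 0 := by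
  have hp : Function.Injective fun a : Fin m => (⟨a, true⟩ : PM m) := fun a b h => by simpa using h
  obtain ⟨l, h1, h2⟩ := fr.exists_hom_levi hm hp (by simp)
  refine ⟨l.codRestrict _ fun g => fr.Levi_le_EG _ (h1.le ⟨g, rfl⟩), fun a b e t => ?_⟩
  obtain ⟨x, hx⟩ := fr.exists_RA (i := ⟨a, true⟩) (j := ⟨b, false⟩) (by simpa using e.symm)
    (-(P.ε * t * (f.B (fr.e ⟨b, true⟩) (fr.e ⟨b, false⟩))⁻¹))
  obtain ⟨g, rfl⟩ := h1.ge (fr.mem_Levi (Set.mem_range_self a) (Set.mem_range_self b) (hp.ne e.symm) ⟨_, hx⟩)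
  suffices g = xSL a b t from this ▸ hx
  refine Subtype.ext (ext fun i k => ?_)
  refine Fintype.linearIndependent_iffₛ.1 (fr.linearIndependent hp) (g.1 · k) ((xSL a b t).1 · k) ?_ i
  rw [← h2, hx.app, fr.B_eq' (by simp), B_smul_right, T.σ, coe_xSL e]
  simp only [transvection, Matrix.add_apply, add_smul, Finset.sum_add_distrib, one_apply, single_apply]
  by_cases h : b = k
  · subst h
    have : f.B (fr.e ⟨b, true⟩) (fr.e ⟨b, false⟩) ≠ 0 := fr.B_ne _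
    rcases P.ε_eq with e | e <;> simp [e, this]
  · simp [h, fr.B_eq' (show (⟨k, true⟩ : PM m) ≠ -⟨b, false⟩ by simpa using Ne.symm h)]

end Typ

theorem Typ.class [Finite F] [Finite V] {n : ℕ} {fr : Frame f (PM (n + 1))} (T : Typ κ fr) (hK : 9 ≤ Nat.card F)
    (hn : 1 ≤ n) (h3 : κ = 0 → 2 ≤ n) : ∃ x : fr.EG, IsConj x x⁻¹ ∧ ∀ g ∉ Subgroup.center _, P2 x g := by
  have : Finite (V ≃ₗ[F] V) := DFunLike.finite _
  have hm : 2 ≤ n + 1 := by omega
  obtain ⟨t, ht⟩ := exists_big hK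
  obtain ⟨l, hl⟩ := T.exists_levi hm
  obtain ⟨β, u, hβ, hu, hs, hu', h0⟩ : ∃ β u : ℤ, (β = 0 ∨ β = 2 ∨ β = 3) ∧ (Odd u ∨ β = 0) ∧ Even (β + n) ∧
      (κ = 0 → Even (u + n)) ∧ (κ ≠ 0 → β ≠ 0) := by
    rcases Int.even_or_odd n with h | h
    · by_cases e : κ = 0
      · exact ⟨0, 0, by simp, by simp, by simpa using h, by simpa using fun _ => h, by simp [e]⟩
      · exact ⟨2, 1, by simp, by simp, even_two.add h, by simp [e], by simp⟩
    · exact ⟨3, 1, by simp, by simp, Odd.add_odd (by decide) h, fun _ => odd_one.add_odd h, by simp⟩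
  obtain ⟨s, hs1, hs2⟩ := T.exists_torus hm t (v := Fin.cons β 1) (by simpa [Fin.sum_univ_succ])
  obtain ⟨w, hw1, hw2⟩ := T.exists_flip hm (v := Fin.cons u 1) (by simpa [Fin.sum_univ_succ] using hu')
  have hw3 : w ∈ fr.Mon := fr.mem_Mon fun k => ⟨_, hw2 k⟩
  have hH : s ∈ HH fr := fun i => ⟨_, hs2.1 i⟩
  have hv : ∀ i : PM (n + 1), (Fin.cons β 1 : Fin (n + 1) → ℤ) ⬝ᵥ ev i = sg i * if i.idx = 0 then β else 1 := fun ⟨a, s⟩ => by
    refine Fin.cases ?_ (fun a => ?_) a <;> simp [ev, mul_comm]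
  have hB : ∀ b, f.B (fr.e ⟨b, true⟩) (fr.e ⟨b, false⟩) ≠ 0 := fun b => fr.B_ne ⟨b, true⟩
  have hX : ∀ a b, a ≠ b → ∀ x ∈ fr.RA ⟨a, true⟩ ⟨b, false⟩, ∃ c, x = (l (xSL a b c)).1 := fun a b e x ⟨c, hx⟩ =>
    ⟨-(P.ε * c * f.B (fr.e ⟨b, true⟩) (fr.e ⟨b, false⟩)), hx.eq ((hl a b e _).congr (by
      congr 1
      rcases P.ε_eq with e | e <;> simp [e, hB]) rfl)⟩
  have ok : ∀ {a b : Fin (n + 1)}, a ≠ b → Ok κ (⟨a, true⟩ : PM (n + 1)) ⟨b, false⟩ := fun e =>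
    ⟨by simpa using e.symm, by simp⟩
  have conj : ∀ {x u v c}, IsE x (fr.e u) v c → IsE (s * x * s⁻¹) (fr.e u) _ _ := fun {x u v c} h =>
    h.of_conj (hs2.1 u) (Units.ne_zero _)
  refine exists_class (T.emb hm) (T.range_le hm) (fun a b ha hb => Subtype.ext (T.commute_H ha hb).eq)
    (conn T.le hm fun e => by have := h3 e; omega) (T.hT hm) (J := {k | k.val + 1 < n + 1}) (fun _ => Iff.rfl)
    (four_le hK) hn l (fun a b e c => (T.PG hm).X_le_GJ ((inSub_rt T.le hm (ok e)).mpr (by simp))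
      ((T.PG_X hm (ok e)).ge ((fr.RX_of_ne (by simp)).ge ⟨_, hl a b e c⟩))) (fun r hr x hx => ?_) (s := ⟨s, hs1⟩)
    (fpf_of_X (T.emb hm) hH fun r hr x hx hc => ?_) hH (Subtype.ext ((hs2.pow _).eq (hs2.congr fun k => ?_)))
    (b := (t ^ (β - 1) : Fˣ)) (Units.ne_zero _) (fun e => ht ((β - 1) * 2) (by omega) (by rcases hβ with e | e | e <;> simp [e])
      (Units.ext (by rwa [_root_.zpow_mul, zpow_ofNat, Units.val_pow_eq_pow_val])))
    (fun a b e c => Subtype.ext ((conj (hl a b e c)).eq ((hl a b e _).congr ?_ (by simp)))) (w := ⟨w, hw1⟩)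
    (Subtype.ext (fr.ext (fun k => ?_) fun v hv => ?_)) fun a b e => ?_
  · obtain ⟨a, b, e, rfl⟩ : ∃ a b, ∃ e : a ≠ b, r = rt (ok e) := by
      obtain ⟨⟨a, s⟩, ⟨b, t⟩, h, rfl⟩ := exists_rt r
      have h1 := (inSub_rt T.le hm h).mp hr
      have h2 := h.1
      cases s <;> cases t <;> simp at h1 h2
      exacts [⟨b, a, h2, rt_symm h⟩, ⟨a, b, Ne.symm h2, rfl⟩]
    obtain ⟨c, hc⟩ := hX a b e x ((fr.RX_of_ne (by simp)).le ((T.PG_X hm (ok e)).le hx))
    refine ⟨a, b, c, ?_, ?_, hc⟩ <;> rw [isPos_rt] <;> simp [η, sg] <;> omega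
  · obtain ⟨i, j, h, rfl⟩ := exists_rt r
    rw [inSub_rt, not_not] at hr
    rw [T.PG_X] at hx
    have hc' : s * x * s⁻¹ = x := mul_inv_eq_iff_eq_mul.mpr hc.symm
    have h1 : (t ^ (Fin.cons β 1 ⬝ᵥ ev i) : Fˣ) * (t ^ (Fin.cons β 1 ⬝ᵥ ev j) : Fˣ) ≠ (1 : F) := fun e => by
      have := h.2
      refine ht (Fin.cons β 1 ⬝ᵥ ev i + Fin.cons β 1 ⬝ᵥ ev j) ?_ ?_ (Units.ext (by rwa [_root_.zpow_add])) <;>
        rw [hv, hv] <;> obtain ⟨a, s⟩ := i <;> obtain ⟨b, t⟩ := j <;> cases s <;> cases t <;>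
        simp [sg, abs_le] at hr this ⊢ <;> split_ifs <;> omega
    by_contra h2
    by_cases e : j = i
    · subst e
      obtain ⟨v, hv, c, hx⟩ := (fr.RX_self j).le hx
      have := (IsE.unique (fr.B_ne j) (fr.Qe _) (fr.mem_V0.mp hv _) (by rw [hs2.2 v hv, B_smul_left, fr.mem_V0.mp hv, mul_zero])
        hx (hc' ▸ conj hx)).2
      rw [T.σ] at this
      exact h1 (mul_right_cancel₀ ((C_ne_one hv hx).mp h2) (by rw [← this, one_mul]))
    · obtain ⟨c, hx⟩ := (fr.RX_of_ne e).le hx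
      have := A_inj e hx ((hc' ▸ conj hx).congr (by rw [map_smul, hs2.1, smul_smul, smul_smul]) (mul_zero _))
      rw [T.σ, mul_right_comm] at this
      exact h1 (mul_right_cancel₀ ((A_ne_one e hx).mp h2) (by rw [← this, one_mul]))
  · rw [Pi.pow_apply, ← Nat.sub_add_cancel (show 1 ≤ Nat.card F by omega), pow_succ, ← Nat.card_units,
      pow_card_eq_one', one_mul]
  · simp only [map_smul, hs2.1, smul_smul, T.σ, hv]
    congr 1
    revert e
    refine Fin.cases ?_ (fun a => ?_) a <;> refine Fin.cases ?_ (fun b => ?_) b <;> simp [sg, zpow_sub₀] <;> intros <;>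
      field_simp
  · obtain ⟨i, hi⟩ := hw3.2 k
    rw [show ((⟨w, hw1⟩ * ⟨s, hs1⟩ * ⟨w, hw1⟩⁻¹ : fr.EG) : f.Isom) = w * s * w⁻¹ from rfl, hi.conj_apply (hs2.1 i),
      show ((⟨s, hs1⟩⁻¹ : fr.EG) : f.Isom) = s⁻¹ from rfl, hs2.inv.1, Pi.inv_apply, ← _root_.zpow_neg, hi.unique (hw2 i)]
    congr 3
    split_ifs with h
    · obtain ⟨a, s⟩ := i
      rw [hv]
      revert h
      refine Fin.cases ?_ (fun a => ?_) a <;> simp
      intro h
      simp [hu.resolve_left (by simpa), ev]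
    · rw [ev_neg, dotProduct_neg, neg_neg]
  · change w.1 (s.1 (w⁻¹.1 v)) = s⁻¹.1 v
    rw [hs2.inv.2 v hv, hs2.2 _ (fr.mem_V0_of_mon (inv_mem hw3) hv), Isom.apply_inv]
  · have e' := (Fin.succ_injective _).ne e
    have h1 := hw2 ⟨a.succ, true⟩
    have h2 := hw2 ⟨b.succ, false⟩
    simp only [Fin.cons_succ, Pi.one_apply, Int.not_even_one, if_false] at h1 h2
    obtain ⟨c, hc⟩ := hX _ _ e'.symm _ (fr.RA_swap (by simpa using e.symm) (h1.conj_RA h2 ⟨_, hl _ _ e' 1⟩))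
    refine ⟨c, fun h => (A_ne_one (by simp) (hl _ _ e' 1)).mpr (by simp [hB, P.ε_ne_zero]) ?_, Subtype.ext hc⟩
    rw [h, ((hl _ _ e'.symm 0).congr (by simp) rfl).eq_one] at hc
    exact conj_eq_one_iff.mp hc

theorem typ_sp {f : Form (Param.sp F) V} (fr : Frame f (PM m)) (h : ∀ v ∈ fr.V0, v = 0) : Typ 2 fr where
  le := le_rfl
  σ _ := rfl
  hasC _ := ⟨0, zero_mem _, 1, f.sp_isLam _ _, one_ne_zero⟩
  lam e := absurd rfl e
  V0 _ := h
  nd v hv _ := h v hv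
  gen := ⟨0, zero_mem _, fun v hv => ⟨0, by simp [h v hv]⟩⟩
  refl v hv _ _ _ w hw := by simp [h v hv, h w hw]
  tri _ _ _ _ _ _ _ _ _ _ _ _ := ⟨0, zero_mem _, f.sp_isLam _ _⟩

theorem typ_plus {f : Form (Param.orth F) V} (fr : Frame f (PM m)) (h : ∀ v ∈ fr.V0, v = 0) : Typ 0 fr where
  le := by simp
  σ _ := rfl
  hasC e := absurd rfl e
  lam _ _ _ _ a b := (f.orth_isLam_iff.mp a).trans (f.orth_isLam_iff.mp b).symm
  V0 _ := h
  nd v hv _ := h v hv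
  gen := ⟨0, zero_mem _, fun v hv => ⟨0, by simp [h v hv]⟩⟩
  refl v hv _ _ _ w hw := by simp [h v hv, h w hw]
  tri u hu _ _ _ _ _ _ _ a _ _ := ⟨0, zero_mem _, by simp [f.orth_isLam_iff.mp a, h u hu, f.orth_isLam_iff, f.Q_zero]⟩

theorem typ_odd {f : Form (Param.orth F) V} (fr : Frame f (PM m)) {v0 : V} (h0 : v0 ∈ fr.V0) (h1 : f.B v0 v0 ≠ 0)
    (h : ∀ v ∈ fr.V0, ∃ c : F, v = c • v0) : Typ 1 fr where
  le := by simp
  σ _ := rfl
  hasC _ := ⟨v0, h0, _, f.orth_isLam _, fun e => h1 (by rw [f.orth_B_self, e, mul_zero])⟩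
  lam _ _ _ _ a b := (f.orth_isLam_iff.mp a).trans (f.orth_isLam_iff.mp b).symm
  V0 e := absurd rfl e
  nd v hv e := by
    obtain ⟨c, rfl⟩ := h v hv
    rw [B_smul_left, f.orth_B_smul_right] at e
    simp_all
  gen := ⟨v0, h0, h⟩
  refl v hv l a l0 w hw := by
    obtain ⟨c, rfl⟩ := h v hv
    obtain ⟨d, rfl⟩ := h w hw
    obtain rfl := f.orth_isLam_iff.mp a
    rw [f.orth_Q_smul] at l0 ⊢
    have := left_ne_zero_of_mul (left_ne_zero_of_mul l0)
    have := right_ne_zero_of_mul l0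
    rw [B_smul_left, f.orth_B_smul_right, f.orth_B_self]
    match_scalars
    field_simp
    ring
  tri u hu v hv w hw _ _ _ a b c := by
    obtain ⟨x, rfl⟩ := h u hu
    obtain ⟨y, rfl⟩ := h v hv
    obtain ⟨z, rfl⟩ := h w hw
    refine ⟨(x * z / y) • v0, Submodule.smul_mem _ _ h0, f.orth_isLam_iff.mpr ?_⟩
    have : f.Q v0 ≠ 0 := fun e => h1 (by rw [f.orth_B_self, e, mul_zero])
    simp only [f.orth_isLam_iff.mp a, f.orth_isLam_iff.mp b, f.orth_isLam_iff.mp c, f.orth_Q_smul]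
    field_simp

end Cfsg.Agent.Gauss.BCD
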